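import Cfsg.Agent.H782.Q.Alg

/-! # S5176, section 2 (case B): actions on `⟨a⟩` and `⟨bt⟩` -/
set_option autoImplicit false
set_option linter.unusedSectionVars false

open Cfsg Cfsg.FusionSystem Cfsg.Agent.H752 Cfsg.Agent.H784.SF Cfsg.Agent.H784.Q

universe u

namespace Cfsg.Agent.H782.QB

variable {Ω : Type u} [Group Ω] {S : Subgroup Ω} [Finite S] {F : FusionSystem S} {R : Subgroup Ω} {a b z r : Ω} {m : ℕ}

theorem pos_a (q : QR R a b z r m) : IsOfFinOrder a := by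
  rw [← orderOf_pos_iff, q.oa]; positivity

/-- natural exponents. -/
theorem nat_exp {g x : Ω} (hg : IsOfFinOrder g) (hx : x ∈ Subgroup.zpowers g) : ∃ n : ℕ, x = g ^ n := by
  classical
  rw [hg.mem_zpowers_iff_mem_range_orderOf] at hx
  obtain ⟨i, -, hi⟩ := Finset.mem_image.mp hx
  exact ⟨i, hi.symm⟩

/-- elements commuting with `a` and `b` centralize `R`. -/
theorem cen_of (q : QR R a b z r m) {s : Ω} (hsS : s ∈ S) (ha : s * a = a * s) (hb : s * b = b * s) :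
    s ∈ centralizerIn S R := by
  refine mem_centK.mpr ⟨hsS, fun x hx => ?_⟩
  have hca : Commute s a := ha
  have hcb : Commute s b := hb
  obtain ⟨i, rfl | rfl⟩ := q.gen x hx
  · exact (hca.pow_right i).eq
  · exact (hcb.mul_right (hca.pow_right i)).eq

section sit
variable (h : Sit F R a b z r m)
include h

/-- `⟨a⟩` is normal in `S`. -/
theorem normA {s : Ω} (hs : s ∈ S) {x : Ω} (hx : x ∈ Subgroup.zpowers a) : s * x * s⁻¹ ∈ Subgroup.zpowers a := by
  have q := h.qr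
  have h1 : s * a * s⁻¹ ∈ Subgroup.zpowers a := by
    by_contra hn
    have h2 := q.sq_out (h.Rn s hs a q.aR) hn
    have h3 : a * a = z := by
      have h4 : s * a * s⁻¹ * (s * a * s⁻¹) = s * (a * a) * s⁻¹ := by group
      rw [h4, mul_inv_eq_iff_eq_mul, ← h.z_centr s hs] at h2
      exact mul_left_cancel h2
    have h5 : a ^ 4 = 1 := by
      have : a ^ 4 = (a * a) * (a * a) := by simp [pow_succ, mul_assoc]
      rw [this, h3, q.zz]
    have h6 := orderOf_dvd_of_pow_eq_one h5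
    rw [q.oa] at h6
    have h7 : 2 ^ m ∣ 2 ^ 2 := h6
    have h8 := (Nat.pow_dvd_pow_iff_le_right (by norm_num : 1 < 2)).mp h7
    have := q.m3
    omega
  obtain ⟨i, rfl⟩ := hx
  change s * a ^ i * s⁻¹ ∈ _
  rw [← conj_zpow]
  exact Subgroup.zpow_mem _ h1 i

theorem conj_a {s : Ω} (hs : s ∈ S) : ∃ i : ℕ, s * a * s⁻¹ = a ^ i :=
  nat_exp (pos_a h.qr) (normA h hs (Subgroup.mem_zpowers a))

theorem conj_b {s : Ω} (hs : s ∈ S) : ∃ i : ℕ, s * b * s⁻¹ = b * a ^ i := by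
  have q := h.qr
  refine q.out_eq (h.Rn s hs b q.bR) fun hn => ?_
  have h1 := normA h (inv_mem hs) hn
  have h2 : s⁻¹ * (s * b * s⁻¹) * s⁻¹⁻¹ = b := by group
  rw [h2] at h1
  exact q.bA h1

/-- (B0): an element inverting `⟨a⟩` is not a square. -/
theorem not_sq {s t : Ω} (hs : s ∈ S) (ht : t * a = a⁻¹ * t) : s * s ≠ t := by
  rintro rfl
  have q := h.qr
  obtain ⟨i, hi⟩ := conj_a h hs
  have h1 : (s * s) * a * (s * s)⁻¹ = a ^ (i * i) := by
    have h2 : (s * s) * a * (s * s)⁻¹ = s * (s * a * s⁻¹) * s⁻¹ := by group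
    rw [h2, hi, ← conj_pow, hi, pow_mul]
  rw [ht, mul_inv_cancel_right] at h1
  have h3 : a ^ (i * i + 1) = 1 := by rw [pow_succ, ← h1, inv_mul_cancel]
  have h4 := orderOf_dvd_of_pow_eq_one h3
  rw [q.oa] at h4
  have h5 : 4 ∣ i * i + 1 := by
    refine dvd_trans ?_ h4
    have : (4 : ℕ) = 2 ^ 2 := by norm_num
    rw [this]
    exact pow_dvd_pow 2 (by have := q.m3; omega)
  have h6 : (i * i + 1) % 4 = 0 := Nat.mod_eq_zero_of_dvd h5
  have h7 : i % 4 = 0 ∨ i % 4 = 1 ∨ i % 4 = 2 ∨ i % 4 = 3 := by omega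
  rw [Nat.add_mod, Nat.mul_mod] at h6
  rcases h7 with h7 | h7 | h7 | h7 <;> rw [h7] at h6 <;> norm_num at h6

variable {t : Ω} (d : SD R a b z r m t)
include d

/-- elements commuting with `t` normalize `⟨bt⟩`. -/
theorem conj_y {s : Ω} (hs : s ∈ S) (hst : s * t = t * s) : ∃ n : ℕ, s * (b * t) * s⁻¹ = (b * t) ^ n := by
  have hfin : IsOfFinOrder (b * t) := by rw [← orderOf_pos_iff, d.orderOf_y]; positivity
  refine nat_exp hfin ?_
  obtain ⟨i, hi⟩ := conj_b h hs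
  have h1 : s * (b * t) * s⁻¹ = (b * t) * (a ^ i)⁻¹ := by
    have h2 : s * (b * t) * s⁻¹ = (s * b * s⁻¹) * (s * t * s⁻¹) := by group
    have h3 : s * t * s⁻¹ = t := by rw [hst, mul_inv_cancel_right]
    have h4 : a ^ i * t = t * (a ^ i)⁻¹ := by
      have := d.ta_zpow (-(i : ℤ))
      rw [zpow_neg, zpow_natCast, inv_inv] at this
      exact this.symm
    rw [h2, h3, hi, mul_assoc, h4, ← mul_assoc]
  rw [h1]
  exact mul_mem (Subgroup.mem_zpowers _) (inv_mem (pow_mem d.a_mem i))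

omit h in
/-- elements commuting with `t` and `bt` are in `K`. -/
theorem mem_K_of {s : Ω} (hs : s ∈ S) (hst : s * t = t * s) (hy : s * (b * t) = (b * t) * s) :
    s ∈ centralizerIn S R := by
  have hcy : Commute s (b * t) := hy
  have hct : Commute s t := hst
  obtain ⟨i, hi⟩ := Subgroup.mem_zpowers_iff.mp d.a_mem
  have hca : Commute s a := by rw [← hi]; exact hcy.zpow_right i
  have hb : b = (b * t) * t⁻¹ := by group
  have hcb : Commute s b := by rw [hb]; exact hcy.mul_right hct.inv_right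
  exact cen_of d.q hs hca hcb

theorem comm_mem_K {s s' : Ω} (hs : s ∈ CS S t) (hs' : s' ∈ CS S t) : s * s' * s⁻¹ * s'⁻¹ ∈ centralizerIn S R := by
  rw [mem_cent] at hs hs'
  have hct : Commute s t := hs.2
  have hct' : Commute s' t := hs'.2
  have hc : Commute (s * s' * s⁻¹ * s'⁻¹) t := ((hct.mul_left hct').mul_left hct.inv_left).mul_left hct'.inv_left
  refine mem_K_of d (mul_mem (mul_mem (mul_mem hs.1 hs'.1) (inv_mem hs.1)) (inv_mem hs'.1)) hc ?_
  obtain ⟨n, hn⟩ := conj_y h d hs.1 hs.2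
  obtain ⟨n', hn'⟩ := conj_y h d hs'.1 hs'.2
  generalize hy : b * t = y at hn hn' ⊢
  -- `s s' y (s s')⁻¹ = s' s y (s' s)⁻¹`
  have h1 : (s * s') * y * (s * s')⁻¹ = y ^ (n * n') := by
    have h2 : (s * s') * y * (s * s')⁻¹ = s * (s' * y * s'⁻¹) * s⁻¹ := by group
    rw [h2, hn', ← conj_pow, hn, pow_mul]
  have h1' : (s' * s) * y * (s' * s)⁻¹ = y ^ (n * n') := by
    have h2 : (s' * s) * y * (s' * s)⁻¹ = s' * (s * y * s⁻¹) * s'⁻¹ := by group
    rw [h2, hn, ← conj_pow, hn', mul_comm n n', pow_mul]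
  have h3 : (s * s') * y * (s * s')⁻¹ = (s' * s) * y * (s' * s)⁻¹ := h1.trans h1'.symm
  -- conjugate of `y` by `(s' s)⁻¹ (s s')` is `y`; we need it for `s s' s⁻¹ s'⁻¹ = (s s') (s' s)⁻¹`
  have h4 : s * s' * s⁻¹ * s'⁻¹ = (s * s') * (s' * s)⁻¹ := by group
  obtain ⟨k, hk⟩ : ∃ k : ℕ, (s' * s)⁻¹ * y * (s' * s) = y ^ k := by
    obtain ⟨k, hk⟩ := conj_y h d (inv_mem (mul_mem hs'.1 hs.1)) (hct'.mul_left hct).inv_left
    rw [hy, inv_inv] at hk
    exact ⟨k, hk⟩
  have h5 : ((s * s') * (s' * s)⁻¹) * y * ((s * s') * (s' * s)⁻¹)⁻¹ = y := by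
    have h6 : ((s * s') * (s' * s)⁻¹) * y * ((s * s') * (s' * s)⁻¹)⁻¹ =
        (s * s') * ((s' * s)⁻¹ * y * (s' * s)) * (s * s')⁻¹ := by group
    rw [h6, hk, ← conj_pow, h3, conj_pow, ← hk]
    group
  rw [h4]
  exact mul_inv_eq_iff_eq_mul.mp h5

/-- `w` acts on `R` as `r`. -/
def Ar (a b z w : Ω) : Prop := w * a = a * w ∧ w * b * w⁻¹ = b * z

/-- the involutions of `C_S(t)` -/
theorem type4 (htS : t ∈ S) {w : Ω} (hw : w ∈ CS S t) (hww : w * w = 1) :
    w ∈ centralizerIn S R ∨ w * t ∈ centralizerIn S R ∨ Ar a b z w ∨ Ar a b z (w * t) := by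
  have q := h.qr
  rw [mem_cent] at hw
  have hwinv : w⁻¹ = w := inv_eq_of_mul_eq_one_right hww
  have hct : Commute w t := hw.2
  obtain ⟨n, hn⟩ := conj_y h d hw.1 hw.2
  obtain ⟨j, hjo, hj⟩ := d.exj
  have hyy := d.yy hj
  have hty := d.ty_conj
  have hyt : (b * t) * t = b := by rw [mul_assoc, d.tt, mul_one]
  have hzy : z * (b * t) = (b * t) * z := by
    obtain ⟨k, hk⟩ := Subgroup.mem_zpowers_iff.mp d.z_mem
    rw [← hk]; exact ((Commute.refl (b * t)).zpow_right k).symm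
  have ho := d.orderOf_y
  have hhalf := d.y_pow_half
  have hm := q.m3
  have haj := d.a_of_odd hjo
  -- the two kinds of elements up to `t`
  have kA : ∀ v ∈ S, v * t = t * v → v * (b * t) * v⁻¹ = b * t → v ∈ centralizerIn S R := fun v hv hvt hvy =>
    mem_K_of d hv hvt (mul_inv_eq_iff_eq_mul.mp hvy)
  have kB : ∀ v ∈ S, v * t = t * v → v * (b * t) * v⁻¹ = (b * t) * z → Ar a b z v := by
    intro v hv hvt hvy
    have hcz : Commute v z := h.z_centr v hv
    have hct : Commute v t := hvt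
    have h1 : Commute v ((b * t) * (b * t)) := by
      have h2 : v * ((b * t) * (b * t)) * v⁻¹ = (v * (b * t) * v⁻¹) * (v * (b * t) * v⁻¹) := by group
      rw [hvy] at h2
      have h3 : b * t * z * (b * t * z) = (b * t) * (b * t) := by
        have : b * t * z * (b * t * z) = b * t * (z * (b * t)) * z := by group
        rw [this, hzy]
        have : b * t * (b * t * z) * z = (b * t) * (b * t) * (z * z) := by group
        rw [this, q.zz, mul_one]
      rw [h3] at h2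
      exact mul_inv_eq_iff_eq_mul.mp h2
    have h2 : Commute v (a ^ j) := by
      have h3 : a ^ j = z * ((b * t) * (b * t)) := by rw [hyy, ← mul_assoc, q.zz, one_mul]
      rw [h3]; exact hcz.mul_right h1
    obtain ⟨k, hk⟩ := Subgroup.mem_zpowers_iff.mp haj
    refine ⟨by rw [← hk]; exact h2.zpow_right k, ?_⟩
    have h4 : v * b * v⁻¹ = (v * (b * t) * v⁻¹) * (v * t⁻¹ * v⁻¹) := by group
    have h5 : v * t⁻¹ * v⁻¹ = t := by rw [d.tinv, hvt, mul_inv_cancel_right]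
    rw [h4, h5, hvy, mul_assoc (b * t), ← d.tz, ← mul_assoc, hyt]
  have hwt : w * t * t = t * (w * t) := by rw [← mul_assoc, ← hw.2]
  have hwtS : w * t ∈ S := mul_mem hw.1 htS
  -- the exponent
  have h1 : (b * t) ^ (n * n) = (b * t) ^ 1 := by
    have h2 : w * (w * (b * t) * w⁻¹) * w⁻¹ = (b * t) ^ (n * n) := by rw [hn, ← conj_pow, hn, pow_mul]
    rw [← h2, pow_one]
    have h3 : w * (w * (b * t) * w⁻¹) * w⁻¹ = (w * w) * (b * t) * (w * w)⁻¹ := by group
    rw [h3, hww, one_mul, inv_one, mul_one]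
  rw [pow_eq_pow_iff_modEq, ho] at h1
  have hodd : Odd n := by
    have h2 : n * n ≡ 1 [MOD 2] := h1.of_dvd (dvd_pow_self 2 (by omega))
    have h3 : (n * n) % 2 = 1 := h2
    have h4 : n % 2 = 0 ∨ n % 2 = 1 := by omega
    rcases h4 with h4 | h4
    · rw [Nat.mul_mod, h4] at h3; norm_num at h3
    · exact Nat.odd_iff.mpr h4
  obtain ⟨l, rfl⟩ := hodd
  have h2 : 2 ^ (m - 1) ∣ l * (l + 1) := by
    have h3 : 2 ^ (m + 1) ∣ (2 * l + 1) * (2 * l + 1) - 1 := (Nat.modEq_iff_dvd' (by nlinarith)).mp h1.symm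
    have h4 : (2 * l + 1) * (2 * l + 1) - 1 = 4 * (l * (l + 1)) := by
      have : (2 * l + 1) * (2 * l + 1) = 4 * (l * (l + 1)) + 1 := by ring
      omega
    rw [h4] at h3
    have h5 : 2 ^ (m + 1) = 4 * 2 ^ (m - 1) := by
      have : (4 : ℕ) = 2 ^ 2 := by norm_num
      rw [this, ← pow_add]; congr 1; omega
    rw [h5] at h3
    exact Nat.dvd_of_mul_dvd_mul_left (by norm_num) h3
  have hcop : Nat.Coprime l (l + 1) := by simp
  have hpow : ∀ k : ℕ, z ^ k = 1 ∨ z ^ k = z := by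
    intro k
    rcases Nat.even_or_odd' k with ⟨e, rfl | rfl⟩
    · left; rw [pow_mul, pow_two, q.zz, one_pow]
    · right; rw [pow_succ, pow_mul, pow_two, q.zz, one_pow, one_mul]
  have h22 : 2 * 2 ^ (m - 1) = 2 ^ m := by rw [← pow_succ']; congr 1; omega
  rcases (hcop.isPrimePow_dvd_mul (Nat.prime_two.isPrimePow.pow (by omega))).mp h2 with ⟨k, hk⟩ | ⟨k, hk⟩
  · -- `w y w⁻¹ = y` or `y z`
    have h3 : (b * t) ^ (2 * l + 1) = (b * t) * z ^ k := by
      rw [hk, pow_succ', ← mul_assoc, h22, pow_mul, hhalf]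
    rw [h3] at hn
    rcases hpow k with h4 | h4 <;> rw [h4] at hn
    · exact Or.inl (kA w hw.1 hw.2 (by rw [hn, mul_one]))
    · exact Or.inr (Or.inr (Or.inl (kB w hw.1 hw.2 hn)))
  · have h3 : (b * t) ^ (2 * l + 1) = (b * t)⁻¹ * z ^ k := by
      rw [eq_inv_mul_iff_mul_eq, ← pow_succ', show 2 * l + 1 + 1 = 2 * (l + 1) from by ring, hk, ← mul_assoc, h22, pow_mul, hhalf]
    rw [h3] at hn
    have hzi : z⁻¹ = z := q.zinv
    have hwz : w * z * w⁻¹ = z := by rw [h.z_centr w hw.1, mul_inv_cancel_right]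
    have h5 : (w * t) * (b * t) * (w * t)⁻¹ = (w * (b * t) * w⁻¹)⁻¹ * z := by
      have h6 : (w * t) * (b * t) * (w * t)⁻¹ = w * (t * (b * t) * t⁻¹) * w⁻¹ := by group
      rw [h6, d.tinv, hty]
      have h7 : w * ((b * t)⁻¹ * z) * w⁻¹ = (w * (b * t) * w⁻¹)⁻¹ * (w * z * w⁻¹) := by group
      rw [h7, hwz]
    rw [hn] at h5
    rcases hpow k with h4 | h4 <;> rw [h4] at h5
    · refine Or.inr (Or.inr (Or.inr (kB _ hwtS hwt ?_)))
      rw [h5, mul_one, inv_inv]
    · refine Or.inr (Or.inl (kA _ hwtS hwt ?_))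
      rw [h5, mul_inv_rev, inv_inv, hzi, hzy, mul_assoc, q.zz, mul_one]

end sit

end Cfsg.Agent.H782.QB
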