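import Cfsg.Agent.H757.Sf.Basic

/-! # S5176, section 2 (case B): the algebra of an involution of type SD (plan: tools/plans/S5176.md) -/
set_option autoImplicit false
set_option linter.unusedSectionVars false

open Cfsg Cfsg.FusionSystem Cfsg.Agent.H752 Cfsg.Agent.H784.SF Cfsg.Agent.H784.Q

universe u

namespace Cfsg.Agent.H782.QB

variable {Ω : Type u} [Group Ω] {S : Subgroup Ω} {R : Subgroup Ω} {a b z r : Ω} {m : ℕ}

/-- the data of an involution `t` of type SD. -/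
structure SD (R : Subgroup Ω) (a b z r : Ω) (m : ℕ) (t : Ω) : Prop where
  q : QR R a b z r m
  ty : TySD R a b z t
  tt : t * t = 1

namespace SD

variable {t : Ω} (d : SD R a b z r m t)
include d

theorem tinv : t⁻¹ = t := inv_eq_of_mul_eq_one_right d.tt

theorem ta_zpow (i : ℤ) : t * a ^ i = (a ^ i)⁻¹ * t := by
  have h1 : t * a * t⁻¹ = a⁻¹ := by rw [d.ty.ta, mul_inv_cancel_right]
  have h2 : t * a ^ i * t⁻¹ = (a ^ i)⁻¹ := by rw [← conj_zpow, h1, inv_zpow]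
  rw [← h2]; group

theorem ta_pow (i : ℕ) : t * a ^ i = (a ^ i)⁻¹ * t := by
  have := d.ta_zpow i
  rwa [zpow_natCast] at this

theorem tz : t * z = z * t := by
  have h1 := d.ta_pow (2 ^ (m - 1))
  rwa [← d.q.hz, d.q.zinv] at h1

theorem tr : t * r = r⁻¹ * t := by
  have h1 := d.ta_pow (2 ^ (m - 2))
  rwa [← d.q.hr] at h1

/-- `y = bt` -/
theorem exj : ∃ j : ℕ, Odd j ∧ t * b * t = b * a ^ j := by
  obtain ⟨j, hj, h⟩ := d.ty.ex
  exact ⟨j, hj, by rwa [d.tinv] at h⟩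

theorem yy {j : ℕ} (hj : t * b * t = b * a ^ j) : (b * t) * (b * t) = z * a ^ j := by
  have h1 : (b * t) * (b * t) = b * (t * b * t) := by group
  rw [h1, hj, ← mul_assoc, d.q.bb]

theorem zj {j : ℕ} (hj : Odd j) : z ^ j = z := by
  obtain ⟨l, rfl⟩ := hj
  rw [pow_succ, pow_mul, pow_two, d.q.zz, one_pow, one_mul]

theorem cza (i : ℕ) : z * a ^ i = a ^ i * z := (Commute.pow_right (show Commute z a from d.q.az) i)

theorem y_pow_half : (b * t) ^ 2 ^ m = z := by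
  obtain ⟨j, hjo, hj⟩ := d.exj
  have hm := d.q.m3
  obtain ⟨n, rfl⟩ : ∃ n, m = n + 2 := ⟨m - 2, by omega⟩
  have h1 : (b * t) ^ 2 ^ (n + 2) = ((b * t) * (b * t)) ^ 2 ^ (n + 1) := by
    rw [← pow_two, ← pow_mul, ← pow_succ']
  rw [h1, d.yy hj, (show Commute z (a ^ j) from d.cza j).mul_pow]
  have h2 : z ^ 2 ^ (n + 1) = 1 := by rw [pow_succ', pow_mul, pow_two, d.q.zz, one_pow]
  have hz : a ^ 2 ^ (n + 1) = z := d.q.hz.symm
  rw [h2, one_mul, ← pow_mul, mul_comm, pow_mul, hz, d.zj hjo]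

theorem orderOf_y : orderOf (b * t) = 2 ^ (m + 1) := by
  refine orderOf_eq_prime_pow ?_ ?_
  · rw [d.y_pow_half]; exact d.q.z_ne
  · rw [pow_succ, pow_mul, d.y_pow_half, pow_two, d.q.zz]

theorem z_mem : z ∈ Subgroup.zpowers (b * t) := by
  rw [← d.y_pow_half]; exact Subgroup.npow_mem_zpowers _ _

theorem aj_mem {j : ℕ} (hj : t * b * t = b * a ^ j) : a ^ j ∈ Subgroup.zpowers (b * t) := by
  have h1 : a ^ j = z * ((b * t) * (b * t)) := by
    rw [d.yy hj, ← mul_assoc, d.q.zz, one_mul]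
  rw [h1]
  exact mul_mem d.z_mem (mul_mem (Subgroup.mem_zpowers _) (Subgroup.mem_zpowers _))

/-- an odd power of `a` generates `⟨a⟩`. -/
theorem a_of_odd {j : ℕ} (hj : Odd j) : a ∈ Subgroup.zpowers (a ^ j) := by
  have h1 : Nat.Coprime j (orderOf a) := by rw [d.q.oa]; exact Nat.Coprime.pow_right _ (Nat.coprime_two_right.mpr hj)
  obtain ⟨n, hn⟩ := exists_pow_eq_self_of_coprime h1
  exact Subgroup.mem_zpowers_iff.mpr ⟨n, by rw [zpow_natCast]; exact hn⟩

theorem a_mem : a ∈ Subgroup.zpowers (b * t) := by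
  obtain ⟨j, hjo, hj⟩ := d.exj
  have h1 := d.a_of_odd hjo
  exact (Subgroup.zpowers_le.mpr (d.aj_mem hj)) h1

theorem A_le : Subgroup.zpowers a ≤ Subgroup.zpowers (b * t) := Subgroup.zpowers_le.mpr d.a_mem

/-- `t` inverts `y = bt` up to `z`. -/
theorem ty_conj : t * (b * t) * t = (b * t)⁻¹ * z := by
  obtain ⟨j, hjo, hj⟩ := d.exj
  have h1 := d.yy hj
  have h2 : t * (b * t) * t = (t * b * t) * t := by group
  have h3 : a ^ j * t = t * (a ^ j)⁻¹ := by
    have := d.ta_zpow (-(j : ℤ))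
    rw [zpow_neg, zpow_natCast, inv_inv] at this
    exact this.symm
  rw [h2, hj, mul_assoc, h3, ← mul_assoc, eq_inv_mul_iff_mul_eq, ← mul_assoc, h1, mul_assoc, mul_inv_cancel, mul_one]

end SD

end Cfsg.Agent.H782.QB
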