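import Cfsg.Agent.H782.Q.Act
import Cfsg.Agent.H757.Sf.FactG

/-! # S5176, section 2 (case B): (B1) `C_S(t)` is abelian, (B2) `C_K(t) = ⟨z⟩` -/
set_option autoImplicit false
set_option linter.unusedSectionVars false

open Cfsg Cfsg.FusionSystem Cfsg.Agent.H752 Cfsg.Agent.H784.SF Cfsg.Agent.H784.Q

universe u

namespace Cfsg.Agent.H782.QB

variable {Ω : Type u} [Group Ω] {S : Subgroup Ω} [Finite S] {F : FusionSystem S} {R : Subgroup Ω} {a b z r : Ω} {m : ℕ}

/-- powers that are involutions. -/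
theorem pow_invol (hS : IsPGroup 2 S) {x : Ω} (hx : x ∈ S) (h1 : x ≠ 1) :
    ∃ n : ℕ, x ^ 2 ^ n ≠ 1 ∧ x ^ 2 ^ n * x ^ 2 ^ n = 1 := by
  obtain ⟨j, hj⟩ := hS ⟨x, hx⟩
  have hj' : x ^ 2 ^ j = 1 := congrArg Subtype.val hj
  clear hj
  induction j with
  | zero => exact absurd (by simpa using hj') h1
  | succ j ih =>
    by_cases h : x ^ 2 ^ j = 1
    · exact ih h
    · refine ⟨j, h, ?_⟩
      rw [← pow_two, ← pow_mul, ← pow_succ]
      exact hj'

section sit
variable (h : Sit F R a b z r m)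
include h

/-- an involution acting on `R` with `⟨z⟩` as the fixed points is of type SD. -/
theorem sd_of_fixed {t : Ω} (ht : t ∈ S) (htt : t * t = 1) (hcen : ∀ x ∈ R, t * x = x * t → x = 1 ∨ x = z) :
    TySD R a b z t := by
  have q := h.qr
  have htinv : t⁻¹ = t := inv_eq_of_mul_eq_one_right htt
  have hzA : z ∈ Subgroup.zpowers a := by rw [q.hz]; exact Subgroup.npow_mem_zpowers _ _
  have hAR : Subgroup.zpowers a ≤ R := Subgroup.zpowers_le.mpr q.aR
  obtain ⟨j, hj⟩ := conj_b h ht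
  rw [htinv] at hj
  have hout : ∀ i : ℕ, t * (b * a ^ i) ≠ (b * a ^ i) * t := by
    intro i hi
    rcases hcen _ (mul_mem q.bR (pow_mem q.aR i)) hi with h1 | h1
    · exact q.bA' i (h1 ▸ one_mem _)
    · exact q.bA' i (h1 ▸ hzA)
  -- `a^t = a⁻¹` or `a⁻¹ z`
  have h1 : t * a * t ∈ Subgroup.zpowers a := by
    have := normA h ht (Subgroup.mem_zpowers a); rwa [htinv] at this
  have hcomm : Commute a (t * a * t) := by
    obtain ⟨k, hk⟩ := Subgroup.mem_zpowers_iff.mp h1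
    rw [← hk]; exact (Commute.refl a).zpow_right k
  have h2 : t * (a * (t * a * t)) = a * (t * a * t) * t := by
    have h3 : t * (a * (t * a * t)) = (t * a * t) * (a * (t)) * 1 := by
      rw [mul_one]; group
    rw [h3, mul_one, ← mul_assoc, ← hcomm.eq]
  have h3 := hcen _ (mul_mem q.aR (hAR h1)) h2
  have h4 : t * a * t = a⁻¹ ∨ t * a * t = a⁻¹ * z := by
    rcases h3 with h3 | h3
    · left; rw [eq_inv_iff_mul_eq_one, ← hcomm.eq]; exact h3
    · right; rw [eq_inv_mul_iff_mul_eq]; exact h3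
  have hbt : ∀ i : ℕ, t * (b * a ^ i) * t = b * a ^ j * (t * a * t) ^ i := by
    intro i
    have h5 : t * (b * a ^ i) * t = (t * b * t) * (t * a ^ i * t⁻¹) := by
      rw [← mul_assoc, ← mul_assoc, ← mul_assoc]
      rw [mul_assoc (t * b) t t, htt, mul_one, htinv]
    rw [h5, hj, ← conj_pow, htinv]
  have key : ∀ i : ℕ, t * (b * a ^ i) * t = b * a ^ i → False := by
    intro i hi
    apply hout i
    calc t * (b * a ^ i) = (t * (b * a ^ i) * t) * t := by rw [mul_assoc (t * (b * a ^ i)), htt, mul_one]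
      _ = _ := by rw [hi]
  rcases h4 with h4 | h4
  · refine ⟨?_, hcen, j, ?_, by rw [htinv]; exact hj⟩
    · rw [← h4, mul_assoc (t * a) t t, htt, mul_one]
    · by_contra hne
      rw [Nat.not_odd_iff_even] at hne
      obtain ⟨l, rfl⟩ := hne
      apply key l
      rw [hbt, h4, mul_assoc, inv_pow, pow_add, mul_assoc, mul_inv_cancel, mul_one]
  · exfalso
    have hm := q.m3
    have haz : Commute a⁻¹ z := (show Commute z a from q.az).symm.inv_left
    have hpow : ∀ i : ℕ, (a⁻¹ * z) ^ i = (a ^ i)⁻¹ * z ^ i := fun i => by rw [haz.mul_pow, inv_pow]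
    have hcza : ∀ i : ℕ, Commute (a ^ i) z := fun i => ((show Commute a z from q.az.symm)).pow_left i
    -- `j` is even
    have h5 : z ^ j = 1 := by
      have h6 : t * (t * b * t) * t = b := by
        have : t * (t * b * t) * t = (t * t) * b * (t * t) := by group
        rw [this, htt, one_mul, mul_one]
      rw [hj, hbt, h4, hpow] at h6
      have h7 : b * a ^ j * ((a ^ j)⁻¹ * z ^ j) = b * z ^ j := by group
      rw [h7] at h6
      exact mul_left_cancel (h6.trans (mul_one b).symm)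
    have hje : Even j := by
      by_contra hne
      rw [Nat.not_even_iff_odd] at hne
      obtain ⟨l, rfl⟩ := hne
      rw [pow_succ, pow_mul, pow_two, q.zz, one_pow, one_mul] at h5
      exact q.z_ne h5
    obtain ⟨l, rfl⟩ := hje
    obtain ⟨n, rfl⟩ : ∃ n, m = n + 3 := ⟨m - 3, by omega⟩
    have hz : a ^ 2 ^ (n + 2) = z := q.hz.symm
    have hev : ∀ e : ℕ, z ^ (2 * e) = 1 := fun e => by rw [pow_mul, pow_two, q.zz, one_pow]
    apply key (l + l * 2 ^ (n + 1))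
    rw [hbt, h4, hpow]
    have h8 : z ^ (l + l * 2 ^ (n + 1)) = z ^ l := by
      rw [pow_add, show l * 2 ^ (n + 1) = 2 * (l * 2 ^ n) from by rw [pow_succ]; ring, hev, mul_one]
    have h9 : a ^ (l + l * 2 ^ (n + 1)) * a ^ (l + l * 2 ^ (n + 1)) = a ^ (l + l) * z ^ l := by
      rw [← hz, ← pow_mul, ← pow_add, ← pow_add]
      congr 1
      rw [pow_succ 2 (n + 1)]; ring
    rw [h8]
    have h10 : b * a ^ (l + l) * ((a ^ (l + l * 2 ^ (n + 1)))⁻¹ * z ^ l) =
        b * (a ^ (l + l) * z ^ l) * (a ^ (l + l * 2 ^ (n + 1)))⁻¹ := by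
      have hc : Commute ((a ^ (l + l * 2 ^ (n + 1)))⁻¹) (z ^ l) := ((hcza _).inv_left).pow_right l
      rw [hc.eq]; group
    rw [h10, ← h9]; group

/-- (D), the other way round. -/
theorem factD' {P : Subgroup Ω} {f : Ω → Ω} (hf : Mp F P f) {z' : Ω} (hz : z' ∈ P) {y : Ω} (hy : y ∈ P)
    (hyK : y ∈ centralizerIn S R) (hy2 : y * y = 1) (hy1 : y ≠ 1) (hfy : f y ∈ centralizerIn S R) (hfz : f z' = z) : z' = z := by
  have hle : Subgroup.zpowers z' ⊔ Subgroup.zpowers y ≤ P := mem_sup_zpowers hz hy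
  have hz'P : z' ∈ Subgroup.zpowers z' ⊔ Subgroup.zpowers y := Subgroup.mem_sup_left (Subgroup.mem_zpowers _)
  have hyP : y ∈ Subgroup.zpowers z' ⊔ Subgroup.zpowers y := Subgroup.mem_sup_right (Subgroup.mem_zpowers _)
  obtain ⟨T, hT, -, -⟩ := hf.exists_image hle
  obtain ⟨g, hg, hg1, hg2⟩ := hf.exists_symm hle hT
  have h1 : g z = z' := by rw [← hfz]; exact hg1 _ hz'P
  have h2 : g (f y) = y := hg1 _ hyP
  have hzT : z ∈ T := (hT z).mpr ⟨z', hz'P, hfz⟩
  have hyT : f y ∈ T := (hT _).mpr ⟨y, hyP, rfl⟩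
  have h3 := h.factD hg hzT hyT hfy (by rw [← hf.mul hy hy, hy2, hf.one])
    (fun h4 => hy1 (hf.inj hy (one_mem _) (h4.trans hf.one.symm))) (by rw [h2]; exact hyK)
  rw [← h1, h3]

variable (hB : ∀ (t : Ω) (β : Ω → Ω), VD F z t β → TySD R a b z t)
include hB

/-- all conjugates of `z` are of type SD. -/
theorem all_sd {t : Ω} (ht : CE F z t) (hne : t ≠ z) : SD R a b z r m t := by
  obtain ⟨ψ, β, hψ, hψz, hv, -⟩ := h.factG ht hne
  have hty := hB _ _ hv
  have htS := ce_right ht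
  have htC : t ∈ CS S t := mem_cent.mpr ⟨htS, rfl⟩
  have hzC : z ∈ CS S t := mem_cent.mpr ⟨h.zS, (h.z_centr t htS).symm⟩
  refine ⟨h.qr, sd_of_fixed h htS (h.tt ht) fun x hx hxt => ?_, h.tt ht⟩
  have hxC : x ∈ CS S t := mem_cent.mpr ⟨h.RS hx, hxt.symm⟩
  have h1 := h.factC hψ hzC hψz x hx hxC
  have h2 : ψ t * ψ x = ψ x * ψ t := by rw [← hψ.mul htC hxC, hxt, hψ.mul hxC htC]
  rcases hty.cen _ h1 h2 with h3 | h3
  · left; exact hψ.inj hxC (one_mem _) (h3.trans hψ.one.symm)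
  · right; exact hψ.inj hxC hzC (h3.trans hψz.symm)

/-- (B0) -/
theorem B0 {t : Ω} (ht : CE F z t) (hne : t ≠ z) {s : Ω} (hs : s ∈ S) : s * s ≠ t :=
  not_sq h hs (all_sd h hB ht hne).ty.ta

/-- (B1): `C_S(t)` is abelian. -/
theorem B1 {t : Ω} {β : Ω → Ω} (v : VD F z t β) {s s' : Ω} (hs : s ∈ CS S t) (hs' : s' ∈ CS S t) : s * s' = s' * s := by
  have d := all_sd h hB v.cj v.ne
  have hzC : z ∈ CS S t := mem_cent.mpr ⟨h.zS, (h.z_centr t (ce_right v.cj)).symm⟩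
  by_contra hne
  have hg1 : s * s' * s⁻¹ * s'⁻¹ ≠ 1 := by
    intro h1
    apply hne
    have h2 : s * s' = (s * s' * s⁻¹ * s'⁻¹) * (s' * s) := by group
    rw [h2, h1, one_mul]
  have hgC : s * s' * s⁻¹ * s'⁻¹ ∈ CS S t := mul_mem (mul_mem (mul_mem hs hs') (inv_mem hs)) (inv_mem hs')
  have hgK := comm_mem_K h d hs hs'
  have hgK' := comm_mem_K h d (v.maps s hs) (v.maps s' hs')
  have hβg : β (s * s' * s⁻¹ * s'⁻¹) = β s * β s' * (β s)⁻¹ * (β s')⁻¹ := by
    rw [v.mp.mul (mul_mem (mul_mem hs hs') (inv_mem hs)) (inv_mem hs'), v.mp.mul (mul_mem hs hs') (inv_mem hs),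
      v.mp.mul hs hs', v.mp.inv hs, v.mp.inv hs']
  rw [← hβg] at hgK'
  obtain ⟨n, hn1, hn2⟩ := pow_invol h.hS hgC.1 hg1
  have h1 := h.factD v.mp hzC (pow_mem hgC (2 ^ n)) (pow_mem hgK (2 ^ n)) hn2 hn1
    (by rw [v.mp.pow hgC]; exact pow_mem hgK' _)
  rw [v.βz] at h1
  exact v.ne h1

theorem B2core {t : Ω} {β : Ω → Ω} (v : VD F z t β) {y : Ω} (hyC : y ∈ CS S t) (hyK : y ∈ centralizerIn S R)
    (hyy : y * y = 1) (hy1 : y ≠ 1) (hx : β y * a = a * β y) : False := by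
  have htS := ce_right v.cj
  have htC : t ∈ CS S t := mem_cent.mpr ⟨htS, rfl⟩
  have hzC : z ∈ CS S t := mem_cent.mpr ⟨h.zS, (h.z_centr t htS).symm⟩
  have hxC := v.maps y hyC
  obtain ⟨y₀, hyy₀, hfc⟩ := exists_fc h.sat hyK.1
  have hy₀K : y₀ ∈ centralizerIn S R := by
    obtain ⟨χ, hχ, hχy⟩ := hfc y hyy₀
    have hR := h.R_le_CS hyK
    have hyC : y ∈ CS S y := mem_cent.mpr ⟨hyK.1, rfl⟩
    refine mem_centK.mpr ⟨ce_right hyy₀, fun x hx => ?_⟩
    obtain ⟨x', hx', rfl⟩ := h.R_surj hχ hR hx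
    rw [← hχy, ← hχ.mul hyC (hR hx'), ← hχ.mul (hR hx') hyC, (mem_centK.mp hyK).2 x' hx']
  obtain ⟨χ, hχ, hχx⟩ := hfc (β y) ((CE.of_mp v.mp hyC).symm.trans hyy₀)
  have hzx : z ∈ CS S (β y) := mem_cent.mpr ⟨h.zS, (h.z_centr _ hxC.1).symm⟩
  have hax : a ∈ CS S (β y) := mem_cent.mpr ⟨h.RS h.qr.aR, hx.symm⟩
  have hrx : r ∈ CS S (β y) := by rw [h.qr.hr]; exact pow_mem hax _
  have hχz : χ z = z := by
    by_contra hne
    refine B0 h hB (CE.of_mp hχ hzx) hne (hχ.mem hrx) ?_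
    rw [← hχ.mul hrx hrx, h.qr.rr]
  have hmap : ∀ x ∈ CS S t, β x ∈ CS S (β y) := fun x hx => by
    refine mem_cent.mpr ⟨(v.maps x hx).1, ?_⟩
    rw [← v.mp.mul hx hyC, ← v.mp.mul hyC hx, B1 h hB v hx hyC]
  have hf := v.mp.comp hχ hmap
  have htz : t * z ∈ CS S t := mul_mem htC hzC
  have hβ : β (t * z) = z := by
    rw [v.mp.mul htC hzC, v.βt, v.βz, mul_assoc, h.z_centr t htS |>.symm, ← mul_assoc, h.tt v.cj, one_mul]
  have h1 : t * z = z := factD' h hf htz hyC hyK hyy hy1 (by rw [hχx]; exact hy₀K) (by rw [hβ, hχz])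
  exact h.t_ne v.cj (mul_eq_right.mp h1)

/-- (B2): `C_K(t) = ⟨z⟩`. -/
theorem B2 {t : Ω} {β : Ω → Ω} (v : VD F z t β) {x : Ω} (hxC : x ∈ CS S t) (hxK : x ∈ centralizerIn S R) : x = 1 ∨ x = z := by
  have htS := ce_right v.cj
  have htC : t ∈ CS S t := mem_cent.mpr ⟨htS, rfl⟩
  have hzC : z ∈ CS S t := mem_cent.mpr ⟨h.zS, (h.z_centr t htS).symm⟩
  have d := all_sd h hB v.cj v.ne
  -- involutions
  have inv : ∀ y ∈ CS S t, y ∈ centralizerIn S R → y * y = 1 → y ≠ 1 → y = z := by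
    intro y hyC hyK hyy hy1
    by_contra hyz
    have hβy := v.maps y hyC
    have hββ : β y * β y = 1 := by rw [← v.mp.mul hyC hyC, hyy, v.mp.one]
    have hyzK : y * z ∈ centralizerIn S R := mul_mem hyK h.zK
    have hyzC : y * z ∈ CS S t := mul_mem hyC hzC
    have hyz2 : (y * z) * (y * z) = 1 := by
      have : (y * z) * (y * z) = y * (z * y) * z := by group
      rw [this, ← h.z_centr y hyC.1]
      have : y * (y * z) * z = (y * y) * (z * z) := by group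
      rw [this, hyy, h.qr.zz, one_mul]
    have hyz1 : y * z ≠ 1 := by
      intro h1
      apply hyz
      rw [mul_eq_one_iff_eq_inv, h.qr.zinv] at h1
      exact h1
    have hβyz : β (y * z) = β y * t := by rw [v.mp.mul hyC hzC, v.βz]
    rcases type4 h d htS hβy hββ with h1 | h1 | h1 | h1
    · have h2 := h.factD v.mp hzC hyC hyK hyy hy1 h1
      rw [v.βz] at h2
      exact v.ne h2
    · rw [← hβyz] at h1
      have h2 := h.factD v.mp hzC hyzC hyzK hyz2 hyz1 h1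
      rw [v.βz] at h2
      exact v.ne h2
    · exact B2core h hB v hyC hyK hyy hy1 h1.1
    · rw [← hβyz] at h1
      exact B2core h hB v hyzC hyzK hyz2 hyz1 h1.1
  by_cases h1 : x = 1
  · exact Or.inl h1
  right
  obtain ⟨n, hn1, hn2⟩ := pow_invol h.hS hxC.1 h1
  have h2 := inv _ (pow_mem hxC _) (pow_mem hxK _) hn2 hn1
  cases n with
  | zero => simpa using h2
  | succ n =>
    exfalso
    have h3 : x ^ 2 ^ n ∈ CS S t := pow_mem hxC _
    refine B0 h hB v.cj v.ne (v.mp.mem h3) ?_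
    rw [← v.mp.mul h3 h3, ← pow_two, ← pow_mul, ← pow_succ, h2, v.βz]

end sit

end Cfsg.Agent.H782.QB
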