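import Cfsg.Agent.H782.Q.B1

/-! # S5176, section 2 (case B): (B3) the structure of `K` -/
set_option autoImplicit false
set_option linter.unusedSectionVars false

open Cfsg Cfsg.FusionSystem Cfsg.Agent.H752 Cfsg.Agent.H784.SF Cfsg.Agent.H784.Q

universe u

namespace Cfsg.Agent.H782.QB

variable {Ω : Type u} [Group Ω] {S : Subgroup Ω} [Finite S] {F : FusionSystem S} {R : Subgroup Ω} {a b z r : Ω} {m : ℕ}

/-- `K⟨t⟩` -/
def adj (K : Subgroup Ω) (t : Ω) (htt : t * t = 1) (hK : ∀ x ∈ K, t * x * t ∈ K) : Subgroup Ω where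
  carrier := {x | ∃ k ∈ K, x = k ∨ x = k * t}
  one_mem' := ⟨1, one_mem _, Or.inl rfl⟩
  mul_mem' := by
    have hswap : ∀ x ∈ K, t * x = (t * x * t) * t := fun x _ => by rw [mul_assoc (t * x), htt, mul_one]
    rintro x y ⟨p, hp, rfl | rfl⟩ ⟨s, hs, rfl | rfl⟩
    · exact ⟨_, mul_mem hp hs, Or.inl rfl⟩
    · exact ⟨_, mul_mem hp hs, Or.inr (mul_assoc _ _ _).symm⟩
    · exact ⟨_, mul_mem hp (hK _ hs), Or.inr (by simp only [mul_assoc, htt, mul_one])⟩
    · exact ⟨_, mul_mem hp (hK _ hs), Or.inl (by simp only [mul_assoc])⟩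
  inv_mem' := by
    rintro x ⟨p, hp, rfl | rfl⟩
    · exact ⟨_, inv_mem hp, Or.inl rfl⟩
    · refine ⟨_, hK _ (inv_mem hp), Or.inr ?_⟩
      rw [mul_inv_rev, inv_eq_of_mul_eq_one_right htt, mul_assoc (t * p⁻¹), htt, mul_one]

theorem mem_adj {K : Subgroup Ω} {t : Ω} {htt : t * t = 1} {hK : ∀ x ∈ K, t * x * t ∈ K} {x : Ω} :
    x ∈ adj K t htt hK ↔ ∃ k ∈ K, x = k ∨ x = k * t := Iff.rfl

theorem grow (hS : IsPGroup 2 S) {K H : Subgroup Ω} {t : Ω} (htt : t * t = 1) (hK : ∀ x ∈ K, t * x * t ∈ K)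
    (hH : ∀ x ∈ H, t * x * t ∈ H) (hHK : H ≤ K) (hne : H ≠ K) (KS : K ≤ S) (tS : t ∈ S) (tK : t ∉ K) :
    ∃ w ∈ K, w ∉ H ∧ ∃ u ∈ H, w * t * w⁻¹ = u * t := by
  have : Fact (Nat.Prime 2) := ⟨Nat.prime_two⟩
  have htinv : t⁻¹ = t := inv_eq_of_mul_eq_one_right htt
  have hXS : adj K t htt hK ≤ S := by
    rintro x ⟨p, hp, rfl | rfl⟩
    · exact KS hp
    · exact mul_mem (KS hp) tS
  have htH : t ∈ adj H t htt hH := ⟨1, one_mem _, Or.inr (one_mul _).symm⟩
  obtain ⟨w₀, hw₀K, hw₀H⟩ : ∃ w ∈ K, w ∉ H := by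
    by_contra hcon
    push Not at hcon
    exact hne (le_antisymm hHK hcon)
  have haux : ∀ x ∈ K, x ∈ adj H t htt hH → x ∈ H := by
    rintro x hx ⟨p, hp, rfl | rfl⟩
    · exact hp
    · exfalso; apply tK
      have := mul_mem (inv_mem (hHK hp)) hx
      rwa [inv_mul_cancel_left] at this
  have hlt : adj H t htt hH < adj K t htt hK := by
    refine lt_of_le_of_ne ?_ fun heq => ?_
    · rintro x ⟨p, hp, hx⟩
      exact ⟨p, hHK hp, hx⟩
    · have h1 : w₀ ∈ adj K t htt hK := ⟨w₀, hw₀K, Or.inl rfl⟩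
      rw [← heq] at h1
      exact hw₀H (haux _ hw₀K h1)
  obtain ⟨g, hgX, hgn, hgN⟩ := H759.exists_mem_normalizer_not_mem hS hXS hlt
  obtain ⟨w, hwK, hwn, hwN⟩ : ∃ w ∈ K, w ∉ adj H t htt hH ∧ w ∈ Subgroup.normalizer (adj H t htt hH : Set Ω) := by
    obtain ⟨p, hp, rfl | rfl⟩ := hgX
    · exact ⟨_, hp, hgn, hgN⟩
    · refine ⟨p, hp, fun h2 => hgn (mul_mem h2 htH), ?_⟩
      have h3 := mul_mem hgN (Subgroup.le_normalizer htH)
      rwa [mul_assoc, htt, mul_one] at h3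
  refine ⟨w, hwK, fun h1 => hwn ⟨w, h1, Or.inl rfl⟩, ?_⟩
  have h1 : w * t * w⁻¹ ∈ adj H t htt hH := (Subgroup.mem_normalizer_iff.mp hwN t).mp htH
  obtain ⟨u, hu, h2 | h2⟩ := h1
  · exfalso
    apply tK
    have h3 : t = w⁻¹ * u * w := by rw [← h2]; group
    rw [h3]
    exact mul_mem (mul_mem (inv_mem hwK) (hHK hu)) hwK
  · exact ⟨u, hu, h2⟩

/-- powers of an element of order at most 2 -/
theorem zp_two {x y : Ω} (hx : x * x = 1) (hy : y ∈ Subgroup.zpowers x) : y = 1 ∨ y = x := by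
  obtain ⟨i, rfl⟩ := hy
  change x ^ i = 1 ∨ x ^ i = x
  rcases Int.even_or_odd' i with ⟨k, rfl | rfl⟩
  · left; rw [zpow_mul, zpow_two, hx, one_zpow]
  · right; rw [zpow_add, zpow_mul, zpow_two, hx, one_zpow, one_mul, zpow_one]

/-- powers of an element of order at most 4 -/
theorem zp_four {c z y : Ω} (hc : c * c = z) (hz : z * z = 1) (hy : y ∈ Subgroup.zpowers c) :
    y = 1 ∨ y = z ∨ y = c ∨ y = c * z := by
  obtain ⟨i, rfl⟩ := hy
  change c ^ i = 1 ∨ c ^ i = z ∨ c ^ i = c ∨ c ^ i = c * z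
  rcases Int.even_or_odd' i with ⟨k, rfl | rfl⟩
  · rw [zpow_mul, zpow_two, hc]
    rcases zp_two hz (Subgroup.zpow_mem _ (Subgroup.mem_zpowers z) k) with h | h <;> rw [h]
    · exact Or.inl rfl
    · exact Or.inr (Or.inl rfl)
  · rw [zpow_add, zpow_mul, zpow_two, hc, zpow_one]
    rcases zp_two hz (Subgroup.zpow_mem _ (Subgroup.mem_zpowers z) k) with h | h <;> rw [h]
    · rw [one_mul]; exact Or.inr (Or.inr (Or.inl rfl))
    · right; right; right; rw [← hc, mul_assoc]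

section sit
variable (h : Sit F R a b z r m)
include h

theorem K_conj {s : Ω} (hs : s ∈ S) {x : Ω} (hx : x ∈ centralizerIn S R) : s * x * s⁻¹ ∈ centralizerIn S R := by
  rw [mem_centK] at hx ⊢
  refine ⟨mul_mem (mul_mem hs hx.1) (inv_mem hs), fun y hy => ?_⟩
  have h1 := hx.2 _ (h.Rn s⁻¹ (inv_mem hs) y hy)
  rw [inv_inv] at h1
  calc s * x * s⁻¹ * y = s * (x * (s⁻¹ * y * s)) * s⁻¹ := by group
    _ = s * (s⁻¹ * y * s * x) * s⁻¹ := by rw [h1]
    _ = y * (s * x * s⁻¹) := by group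

theorem ar_mul {w x : Ω} (hw : w ∈ S) (hx : x ∈ S) (h1 : Ar a b z w) (h2 : Ar a b z x) : w * x⁻¹ ∈ centralizerIn S R := by
  have hxz : x⁻¹ * z = z * x⁻¹ := h.z_centr _ (inv_mem hx)
  have hwz : w * z = z * w := h.z_centr _ hw
  have hca : Commute w a := h1.1
  have hca' : Commute x a := h2.1
  refine cen_of h.qr (mul_mem hw (inv_mem hx)) (hca.mul_left hca'.inv_left) ?_
  have h3 : x⁻¹ * b = b * z * x⁻¹ := by
    have h4 := h2.2
    rw [mul_inv_eq_iff_eq_mul] at h4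
    have h5 : x⁻¹ * (b * z * x) * z = x⁻¹ * (x * b) * z := by rw [h4]
    have h6 : x⁻¹ * (b * z * x) * z = x⁻¹ * b * (z * (x * z)) := by group
    rw [h6, h.z_centr x hx, ← mul_assoc z, h.qr.zz, one_mul, inv_mul_cancel_left] at h5
    rw [← h5]; group
  have h4 : w * b = b * z * w := mul_inv_eq_iff_eq_mul.mp h1.2
  rw [mul_assoc, h3, mul_assoc b, ← mul_assoc w b, h4, ← hxz, ]
  calc b * z * w * (x⁻¹ * z) = b * z * (w * (x⁻¹ * z)) := by group
    _ = b * z * (w * (z * x⁻¹)) := by rw [hxz]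
    _ = b * z * ((w * z) * x⁻¹) := by group
    _ = b * z * ((z * w) * x⁻¹) := by rw [hwz]
    _ = b * (z * z) * (w * x⁻¹) := by group
    _ = b * (w * x⁻¹) := by rw [h.qr.zz, mul_one]

variable (hB : ∀ (t : Ω) (β : Ω → Ω), VD F z t β → TySD R a b z t)
include hB

/-- elements commuting with `a` are not conjugate to `z`. -/
theorem not_ce {x : Ω} (hx : x * a = a * x) (hne : x ≠ z) : ¬ CE F z x := by
  intro h1
  have h2 := (all_sd h hB h1 hne).ty.ta
  rw [hx] at h2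
  have h3 : a = a⁻¹ := mul_right_cancel h2
  have h4 : a ^ 2 = 1 := by rw [pow_two]; nth_rw 2 [h3]; exact mul_inv_cancel a
  have h5 := orderOf_dvd_of_pow_eq_one h4
  rw [h.qr.oa] at h5
  have h6 : 2 ^ m ∣ 2 ^ 1 := h5
  have h7 := (Nat.pow_dvd_pow_iff_le_right (by norm_num : 1 < 2)).mp h6
  have := h.qr.m3
  omega

/-- (B3), the conjugates of `z` in `E`. -/
theorem B3core {t : Ω} {β : Ω → Ω} (v : VD F z t β) {c : Ω} (hc : c ∈ centralizerIn S R) (hcc : c * c = z)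
    (hct : c * t * c⁻¹ = z * t) : ¬ CE F z (r * c * t) ∧ ¬ CE F z (r * c * z * t) := by
  have q := h.qr
  have htS := ce_right v.cj
  have htC : t ∈ CS S t := mem_cent.mpr ⟨htS, rfl⟩
  have hzC : z ∈ CS S t := mem_cent.mpr ⟨h.zS, (h.z_centr t htS).symm⟩
  have d := all_sd h hB v.cj v.ne
  have hrS : r ∈ S := h.RS q.rR
  have hcS : c ∈ S := hc.1
  have hxS : r * c ∈ S := mul_mem hrS hcS
  have hcR := (mem_centK.mp hc).2
  have hzcomm : ∀ s ∈ S, Commute s z := fun s hs => h.z_centr s hs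
  have hrinv : r⁻¹ = r * z := by rw [inv_eq_iff_mul_eq_one, ← mul_assoc, q.rr, q.zz]
  have hct' : t * c = c * z * t := by
    have h1 : c * t = z * t * c := mul_inv_eq_iff_eq_mul.mp hct
    have h2 : z * (c * t) = t * c := by rw [h1, ← mul_assoc, ← mul_assoc, q.zz, one_mul]
    rw [← h2, ← mul_assoc, (hzcomm c hcS).eq]
  have htr : t * r = r * z * t := by rw [d.tr, hrinv]
  have hrt : r * t = t * r * z := by
    rw [htr, mul_assoc (r * z), h.z_centr t htS, ← mul_assoc, mul_assoc r, q.zz, mul_one]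
  have hxt : t * (r * c) = r * c * t := by
    have e1 : t * (r * c) = r * z * (t * c) := by rw [← mul_assoc, htr, mul_assoc]
    rw [e1, hct', ← mul_assoc, mul_assoc r z, ← mul_assoc z c z, (hzcomm c hcS).symm.eq, mul_assoc c z z, q.zz, mul_one]
  have hxC : r * c ∈ CS S t := mem_cent.mpr ⟨hxS, hxt.symm⟩
  have hxx : (r * c) * (r * c) = 1 := by
    calc (r * c) * (r * c) = r * (c * r) * c := by group
      _ = (r * r) * (c * c) := by rw [hcR r q.rR]; group
      _ = 1 := by rw [q.rr, hcc, q.zz]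
  have hxa : (r * c) * a = a * (r * c) := by
    rw [mul_assoc, hcR a q.aR, ← mul_assoc, q.ra, mul_assoc]
  have hAr : Ar a b z (r * c) := by
    refine ⟨hxa, ?_⟩
    have h1 : r * c * b * (r * c)⁻¹ = r * (c * b * c⁻¹) * r⁻¹ := by group
    rw [h1, hcR b q.bR, mul_inv_cancel_right]
    have h2 : r * b = b * r⁻¹ := by
      have h2 := q.ba_zpow (-(2 ^ (m - 2) : ℕ) : ℤ)
      rw [zpow_neg, zpow_natCast, ← q.hr, inv_inv] at h2
      exact h2.symm
    rw [h2, mul_assoc, ← mul_inv_rev, q.rr, q.zinv]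
  have hx1 : r * c ≠ 1 := by
    intro h1
    have h2 := hAr.2
    rw [h1, one_mul, inv_one, mul_one] at h2
    exact q.z_ne (mul_eq_left.mp h2.symm)
  have hxz : r * c ≠ z := by
    intro h1
    have h2 := hAr.2
    rw [h1, q.bz, mul_inv_cancel_right] at h2
    exact q.z_ne (mul_eq_left.mp h2.symm)
  have hxz1 : r * c * z ≠ z := fun h1 => hx1 (mul_eq_right.mp h1)
  have hn1 := not_ce h hB hxa hxz
  have hn2 : ¬ CE F z (r * c * z) := not_ce h hB (by
    rw [mul_assoc (r * c), q.az, ← mul_assoc, hxa, mul_assoc]) hxz1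
  have hr' : r * t * r⁻¹ = z * t := by
    have h4 := d.ta_zpow (-(2 ^ (m - 2) : ℕ) : ℤ)
    rw [zpow_neg, zpow_natCast, ← q.hr, inv_inv] at h4
    rw [← h4, mul_assoc, ← mul_inv_rev, q.rr, q.zinv, h.z_centr t htS]
  have hrx : r * (r * c) * r⁻¹ = r * c := by rw [← hcR r q.rR, ← mul_assoc, mul_inv_cancel_right, hcR r q.rR]
  -- `xt` and `xzt` are conjugate
  have e1 : r * (r * c * t) * r⁻¹ = r * c * z * t := by
    have h2 : r * (r * c * t) * r⁻¹ = (r * (r * c) * r⁻¹) * (r * t * r⁻¹) := by group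
    rw [h2, hrx, hr', mul_assoc (r * c)]
  have e2 : r⁻¹ * (r * c * z * t) * r⁻¹⁻¹ = r * c * t := by rw [← e1]; group
  have c1 : CE F (r * c * t) (r * c * z * t) := by
    have h1 := CE.of_mp (mp_conj F (le_refl S) hrS) (mul_mem hxS htS)
    rwa [e1] at h1
  have c2 : CE F (r * c * z * t) (r * c * t) := c1.symm
  suffices hs : ¬ (CE F z (r * c * t) ∧ CE F z (r * c * z * t)) from
    ⟨fun h1 => hs ⟨h1, h1.trans c1⟩, fun h1 => hs ⟨h1.trans c2, h1⟩⟩
  rintro ⟨c3, c4⟩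
  have hβxC := v.maps _ hxC
  have hβxx : β (r * c) * β (r * c) = 1 := by rw [← v.mp.mul hxC hxC, hxx, v.mp.one]
  have hnβ : ¬ CE F z (β (r * c)) := fun h1 => hn1 (h1.trans (CE.of_mp v.mp hxC).symm)
  have hztc : CE F z (z * t) := by
    have h1 := (CE.of_mp v.mp htC)
    rw [v.βt, h.z_centr t htS] at h1
    exact v.cj.trans h1
  have hzz : CE F z z := CE.of_mp (mp_id F (le_refl S)) h.zS
  have htinv := d.tinv
  have hβne : β (r * c) ≠ 1 := fun h1 => hx1 (v.mp.inj hxC (one_mem _) (h1.trans v.mp.one.symm))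
  rcases type4 h d htS hβxC hβxx with h1 | h1 | h1 | h1
  · rcases B2 h hB v hβxC h1 with h2 | h2
    · exact hβne h2
    · rw [h2] at hnβ; exact hnβ hzz
  · rcases B2 h hB v (mul_mem hβxC htC) h1 with h2 | h2
    · rw [mul_eq_one_iff_eq_inv, htinv] at h2
      rw [h2] at hnβ; exact hnβ v.cj
    · rw [← eq_mul_inv_iff_mul_eq, htinv] at h2
      rw [h2] at hnβ; exact hnβ hztc
  · -- `β x = x` or `xz`
    have h2 := ar_mul h hβxC.1 hxS h1 hAr
    have h3 := B2 h hB v (mul_mem hβxC (inv_mem hxC)) h2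
    have h4 : β (r * c * z) = β (r * c) * t := by rw [v.mp.mul hxC hzC, v.βz]
    have h5 : CE F z (β (r * c) * t) := by
      rcases h3 with h3 | h3
      · rw [mul_inv_eq_one] at h3
        rw [h3]; exact c3
      · rw [mul_inv_eq_iff_eq_mul, ← h.z_centr _ hxS] at h3
        rw [h3]; exact c4
    rw [← h4] at h5
    exact hn2 (h5.trans (CE.of_mp v.mp (mul_mem hxC hzC)).symm)
  · have h2 := ar_mul h (mul_mem hβxC htC).1 hxS h1 hAr
    have h3 := B2 h hB v (mul_mem (mul_mem hβxC htC) (inv_mem hxC)) h2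
    rcases h3 with h3 | h3
    · rw [mul_inv_eq_one, ← eq_mul_inv_iff_mul_eq, htinv] at h3
      rw [h3] at hnβ; exact hnβ c3
    · rw [mul_inv_eq_iff_eq_mul, ← eq_mul_inv_iff_mul_eq, htinv, ← h.z_centr _ hxS] at h3
      rw [h3] at hnβ; exact hnβ c4

omit hB in
theorem ce_conj {x s : Ω} (hx : x ∈ S) (hs : s ∈ S) : CE F x (s * x * s⁻¹) :=
  CE.of_mp (mp_conj F (le_refl S) hs) hx

omit hB in
theorem ce_move {x s : Ω} (hx : CE F z x) (hs : s ∈ S) : CE F z (s * x * s⁻¹) :=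
  hx.trans (ce_conj h (ce_right hx) hs)

omit hB in
theorem rc_comm {t : Ω} (d : SD R a b z r m t) {c : Ω} (hc : c ∈ centralizerIn S R) (hct : c * t * c⁻¹ = z * t) :
    t * (r * c) = r * c * t := by
  have q := h.qr
  have hcS : c ∈ S := hc.1
  have hzc : c * z = z * c := h.z_centr c hcS
  have hrinv : r⁻¹ = r * z := by rw [inv_eq_iff_mul_eq_one, ← mul_assoc, q.rr, q.zz]
  have hct' : t * c = c * z * t := by
    have h1 : c * t = z * t * c := mul_inv_eq_iff_eq_mul.mp hct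
    have h2 : z * (c * t) = t * c := by rw [h1, ← mul_assoc, ← mul_assoc, q.zz, one_mul]
    rw [← h2, ← mul_assoc, hzc]
  have htr : t * r = r * z * t := by rw [d.tr, hrinv]
  have e1 : t * (r * c) = r * z * (t * c) := by rw [← mul_assoc, htr, mul_assoc]
  rw [e1, hct', ← mul_assoc, mul_assoc r z, ← mul_assoc z c z, hzc.symm, mul_assoc c z z, q.zz, mul_one]

/-- (B3) -/
theorem B3 {t : Ω} {β : Ω → Ω} (v : VD F z t β) : ∃ c, c ^ 4 = 1 ∧ centralizerIn S R ≤ Subgroup.zpowers c ∧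
    ∀ κ ∈ centralizerIn S R, CE F z (κ * t) → κ = 1 ∨ κ = z := by
  have q := h.qr
  have htS := ce_right v.cj
  have htC : t ∈ CS S t := mem_cent.mpr ⟨htS, rfl⟩
  have hzC : z ∈ CS S t := mem_cent.mpr ⟨h.zS, (h.z_centr t htS).symm⟩
  have d := all_sd h hB v.cj v.ne
  have htt := d.tt
  have htinv := d.tinv
  have hz4 : z ^ 4 = 1 := by rw [show (4 : ℕ) = 2 * 2 from rfl, pow_mul, pow_two z, q.zz, one_pow]
  have hrS : r ∈ S := h.RS q.rR
  have hKt : ∀ x ∈ centralizerIn S R, t * x * t ∈ centralizerIn S R := fun x hx => by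
    have := K_conj h htS hx
    rwa [htinv] at this
  have htK : t ∉ centralizerIn S R := h.not_K v.cj v.ne
  have hzt : t * z * t = z := by rw [d.tz, mul_assoc, htt, mul_one]
  have zle : Subgroup.zpowers z ≤ centralizerIn S R := Subgroup.zpowers_le.mpr h.zK
  by_cases hK1 : Subgroup.zpowers z = centralizerIn S R
  · refine ⟨z, hz4, le_of_eq hK1.symm, fun κ hκ _ => ?_⟩
    rw [← hK1] at hκ
    exact zp_two q.zz hκ
  obtain ⟨c, hcK, hcn, u, hu, hct⟩ := grow h.hS htt hKt (H := Subgroup.zpowers z) (fun x hx => by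
    rcases zp_two q.zz hx with rfl | rfl
    · rw [mul_one, htt]; exact one_mem _
    · rw [hzt]; exact Subgroup.mem_zpowers _) zle hK1 inf_le_left htS htK
  have hcS : c ∈ S := hcK.1
  have hcR := (mem_centK.mp hcK).2
  have inC : ∀ w ∈ centralizerIn S R, w * t * w⁻¹ = t → w = 1 ∨ w = z := fun w hw hwt =>
    B2 h hB v (mem_cent.mpr ⟨hw.1, mul_inv_eq_iff_eq_mul.mp hwt⟩) hw
  have hct' : c * t * c⁻¹ = z * t := by
    rcases zp_two q.zz hu with h1 | h1 <;> rw [h1] at hct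
    · exfalso
      rw [one_mul] at hct
      rcases inC c hcK hct with h2 | h2 <;> rw [h2] at hcn
      · exact hcn (one_mem _)
      · exact hcn (Subgroup.mem_zpowers _)
    · exact hct
  have hrc := rc_comm h d hcK hct'
  have hccK : c * c ∈ centralizerIn S R := mul_mem hcK hcK
  have hcz : c * z * c⁻¹ = z := by rw [h.z_centr c hcS, mul_inv_cancel_right]
  have hcc : c * c = z := by
    refine (inC _ hccK ?_).resolve_left fun h1 => ?_
    · have e1 : c * c * t * (c * c)⁻¹ = c * (c * t * c⁻¹) * c⁻¹ := by group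
      have e2 : c * (z * t) * c⁻¹ = (c * z * c⁻¹) * (c * t * c⁻¹) := by group
      rw [e1, hct', e2, hcz, hct', ← mul_assoc, q.zz, one_mul]
    · have hxC : r * c ∈ CS S t := mem_cent.mpr ⟨mul_mem hrS hcS, hrc.symm⟩
      refine B0 h hB v.cj v.ne (v.mp.mem hxC) ?_
      rw [← v.mp.mul hxC hxC]
      have e1 : (r * c) * (r * c) = z := by
        have : (r * c) * (r * c) = r * (c * r) * c := by group
        rw [this, hcR r q.rR]
        have : r * (r * c) * c = (r * r) * (c * c) := by group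
        rw [this, h1, q.rr, mul_one]
      rw [e1, v.βz]
  obtain ⟨hn1, hn2⟩ := B3core h hB v hcK hcc hct'
  -- the square root of `r`
  have hm := q.m3
  have ha1 : a ^ 2 ^ (m - 3) * a ^ 2 ^ (m - 3) = r := by
    rw [q.hr, ← pow_add, ← two_mul, ← pow_succ']
    congr 2; omega
  have ha1S : a ^ 2 ^ (m - 3) ∈ S := h.RS (pow_mem q.aR _)
  have ha1t : a ^ 2 ^ (m - 3) * t * (a ^ 2 ^ (m - 3))⁻¹ = r * t := by
    have h4 := d.ta_zpow (-(2 ^ (m - 3) : ℕ) : ℤ)
    rw [zpow_neg, zpow_natCast, inv_inv] at h4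
    rw [mul_assoc, h4, ← mul_assoc, ha1]
  have conjκ : ∀ κ ∈ centralizerIn S R, CE F z (κ * t) → CE F z (r * κ * t) := by
    intro κ hκ h1
    have hκR := (mem_centK.mp hκ).2
    have h2 := ce_move h h1 ha1S
    have e1 : a ^ 2 ^ (m - 3) * (κ * t) * (a ^ 2 ^ (m - 3))⁻¹ =
        (a ^ 2 ^ (m - 3) * κ) * t * (a ^ 2 ^ (m - 3))⁻¹ := by group
    have e2 : κ * a ^ 2 ^ (m - 3) * t * (a ^ 2 ^ (m - 3))⁻¹ =
        κ * (a ^ 2 ^ (m - 3) * t * (a ^ 2 ^ (m - 3))⁻¹) := by group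
    rw [e1, ← hκR _ (pow_mem q.aR _), e2, ha1t, ← mul_assoc, hκR r q.rR] at h2
    exact h2
  have hcases : ∀ κ ∈ Subgroup.zpowers c, CE F z (κ * t) → κ = 1 ∨ κ = z := by
    intro κ hκ h1
    rcases zp_four hcc q.zz hκ with h2 | h2 | h2 | h2
    · exact Or.inl h2
    · exact Or.inr h2
    · exfalso; rw [h2] at h1; exact hn1 (conjκ c hcK h1)
    · exfalso; rw [h2] at h1
      have h3 := conjκ _ (mul_mem hcK h.zK) h1
      rw [← mul_assoc r] at h3
      exact hn2 h3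
  have hc4 : c ^ 4 = 1 := by rw [show (4 : ℕ) = 2 * 2 from rfl, pow_mul, pow_two c, hcc, pow_two z, q.zz]
  have cle : Subgroup.zpowers c ≤ centralizerIn S R := Subgroup.zpowers_le.mpr hcK
  by_cases hK2 : Subgroup.zpowers c = centralizerIn S R
  · exact ⟨c, hc4, le_of_eq hK2.symm, fun κ hκ => hcases κ (by rw [hK2]; exact hκ)⟩
  exfalso
  have zc : z ∈ Subgroup.zpowers c := by rw [← hcc]; exact mul_mem (Subgroup.mem_zpowers _) (Subgroup.mem_zpowers _)
  have htc : t * c * t = c * z := by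
    have h1 : c * t = z * t * c := mul_inv_eq_iff_eq_mul.mp hct'
    have h2 : z * (c * t) = t * c := by rw [h1, ← mul_assoc, ← mul_assoc, q.zz, one_mul]
    rw [← h2, mul_assoc, mul_assoc, htt, mul_one, h.z_centr c hcS]
  obtain ⟨w, hwK, hwn, u, hu, hwt⟩ := grow h.hS htt hKt (H := Subgroup.zpowers c) (fun x hx => by
    rcases zp_four hcc q.zz hx with h1 | h1 | h1 | h1 <;> rw [h1]
    · rw [mul_one, htt]; exact one_mem _
    · rw [hzt]; exact zc
    · rw [htc]; exact mul_mem (Subgroup.mem_zpowers _) zc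
    · have : t * (c * z) * t = (t * c * t) * z := by
        rw [← mul_assoc, mul_assoc (t * c), ← d.tz, ← mul_assoc]
      rw [this, htc]; exact mul_mem (mul_mem (Subgroup.mem_zpowers _) zc) zc) cle hK2 inf_le_left htS htK
  have hCE : CE F z (u * t) := by rw [← hwt]; exact ce_move h v.cj hwK.1
  rcases hcases u hu hCE with h1 | h1 <;> rw [h1] at hwt
  · rw [one_mul] at hwt
    rcases inC w hwK hwt with h2 | h2 <;> rw [h2] at hwn
    · exact hwn (one_mem _)
    · exact hwn zc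
  · have h2 : c⁻¹ * w ∈ centralizerIn S R := mul_mem (inv_mem hcK) hwK
    have h3 : c⁻¹ * w * t * (c⁻¹ * w)⁻¹ = t := by
      have e1 : c⁻¹ * w * t * (c⁻¹ * w)⁻¹ = c⁻¹ * (w * t * w⁻¹) * c := by group
      rw [e1, hwt, ← hct']; group
    have h4 : c⁻¹ * w ∈ Subgroup.zpowers c := by
      rcases inC _ h2 h3 with h4 | h4 <;> rw [h4]
      · exact one_mem _
      · exact zc
    apply hwn
    have := mul_mem (Subgroup.mem_zpowers c) h4
    rwa [mul_inv_cancel_left] at this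

end sit

end Cfsg.Agent.H782.QB
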