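import Cfsg.Agent.H782.Q.B3

/-! # S5176, section 2 (case B): (B4) and the conclusion -/
set_option autoImplicit false
set_option linter.unusedSectionVars false

open Cfsg Cfsg.FusionSystem Cfsg.Agent.H752 Cfsg.Agent.H784.SF Cfsg.Agent.H784.Q

universe u

namespace Cfsg.Agent.H782.QB

variable {Ω : Type u} [Group Ω] {S : Subgroup Ω} [Finite S] {F : FusionSystem S} {R : Subgroup Ω} {a b z r : Ω} {m : ℕ}

section sit
variable (h : Sit F R a b z r m)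
include h

omit h in
/-- all `a^l t` are conjugate to `t` under `R`. -/
theorem at_conj {t : Ω} (d : SD R a b z r m t) (l : ℤ) : ∃ ρ ∈ R, a ^ l * t = ρ * t * ρ⁻¹ := by
  have q := d.q
  obtain ⟨j, hjo, hj⟩ := d.exj
  have hk : ∀ k : ℤ, a ^ k * t * (a ^ k)⁻¹ = a ^ (2 * k) * t := by
    intro k
    have h4 := d.ta_zpow (-k)
    rw [zpow_neg, inv_inv] at h4
    rw [mul_assoc, h4, ← mul_assoc, ← zpow_add, two_mul]
  have hb : b * t * b⁻¹ = a ^ (j : ℤ) * t := by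
    have h1 : t * b⁻¹ * t = (a ^ j)⁻¹ * b⁻¹ := by
      have h2 : (t * b * t)⁻¹ = (b * a ^ j)⁻¹ := by rw [hj]
      rw [mul_inv_rev, mul_inv_rev, mul_inv_rev, d.tinv, ← mul_assoc] at h2
      exact h2
    have h2 : t * b⁻¹ = (a ^ j)⁻¹ * b⁻¹ * t := by rw [← h1, mul_assoc _ t t, d.tt, mul_one]
    have h3 : b * (a ^ j)⁻¹ = a ^ j * b := by
      have := q.ba_zpow (-(j : ℤ))
      rwa [zpow_neg, zpow_natCast, inv_inv] at this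
    rw [mul_assoc, h2, ← mul_assoc, ← mul_assoc, h3, mul_inv_cancel_right, zpow_natCast]
  rcases Int.even_or_odd' l with ⟨k, rfl | rfl⟩
  · exact ⟨a ^ k, zpow_mem q.aR k, (hk k).symm⟩
  · obtain ⟨e, rfl⟩ := hjo
    refine ⟨a ^ (k - e) * b, mul_mem (zpow_mem q.aR _) q.bR, ?_⟩
    have h1 : a ^ (k - e : ℤ) * b * t * (a ^ (k - e : ℤ) * b)⁻¹ = a ^ (k - e : ℤ) * (b * t * b⁻¹) * (a ^ (k - e : ℤ))⁻¹ := by group
    have h2 : a ^ (k - e : ℤ) * (a ^ ((2 * e + 1 : ℕ) : ℤ) * t) * (a ^ (k - e : ℤ))⁻¹ =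
        a ^ ((2 * e + 1 : ℕ) : ℤ) * (a ^ (k - e : ℤ) * t * (a ^ (k - e : ℤ))⁻¹) := by
      rw [← mul_assoc, ← zpow_add, add_comm, zpow_add]; group
    rw [h1, hb, h2, hk, ← mul_assoc, ← zpow_add]
    congr 2
    push_cast; ring

variable (hB : ∀ (t : Ω) (β : Ω → Ω), VD F z t β → TySD R a b z t)
include hB

/-- (B4): `z` and the conjugates of `t` under `R` are all conjugates of `z`. -/
theorem B4 {t : Ω} {β : Ω → Ω} (v : VD F z t β) {t₁ : Ω} (ht₁ : CE F z t₁) (hne : t₁ ≠ z) : ∃ ρ ∈ R, t₁ = ρ * t * ρ⁻¹ := by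
  have q := h.qr
  have htS := ce_right v.cj
  have d := all_sd h hB v.cj v.ne
  have d₁ := all_sd h hB ht₁ hne
  have ht₁S := ce_right ht₁
  obtain ⟨j, hjo, hj⟩ := d.exj
  obtain ⟨j₁, hjo₁, hj₁⟩ := d₁.exj
  obtain ⟨e, rfl⟩ := hjo
  obtain ⟨e₁, rfl⟩ := hjo₁
  -- `κ := a^l t₁ t`
  obtain ⟨l, hl⟩ : ∃ l : ℤ, l = (e₁ : ℤ) - e := ⟨_, rfl⟩
  have hκK : a ^ l * (t₁ * t) ∈ centralizerIn S R := by
    refine cen_of q (mul_mem (h.RS (zpow_mem q.aR _)) (mul_mem ht₁S htS)) ?_ ?_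
    · have h1 : t₁ * t * a = a * (t₁ * t) := by
        have h2 := d₁.ta_zpow (-1)
        rw [zpow_neg, zpow_one, inv_inv] at h2
        rw [mul_assoc, d.ty.ta, ← mul_assoc, h2, mul_assoc]
      exact (((Commute.refl a).zpow_left l).mul_left (show Commute (t₁ * t) a from h1)).eq
    · have h1 : t₁ * t * b * (t₁ * t)⁻¹ = b * a ^ (2 * l) := by
        have h2 : t₁ * t * b * (t₁ * t)⁻¹ = t₁ * (t * b * t⁻¹) * t₁⁻¹ := by group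
        have h3 : t₁ * (b * a ^ (2 * e + 1)) * t₁ = (t₁ * b * t₁) * (t₁ * a ^ (2 * e + 1) * t₁) := by
          have : (t₁ * b * t₁) * (t₁ * a ^ (2 * e + 1) * t₁) = t₁ * b * (t₁ * t₁) * a ^ (2 * e + 1) * t₁ := by group
          rw [this, d₁.tt, mul_one]; group
        rw [h2, d.tinv, hj, d₁.tinv, h3, hj₁, d₁.ta_pow, mul_assoc (a ^ (2 * e + 1))⁻¹, d₁.tt, mul_one, mul_assoc]
        congr 1
        rw [← zpow_natCast, ← zpow_natCast, ← zpow_neg, ← zpow_add]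
        congr 1
        rw [hl]; push_cast; ring
      have h2 : t₁ * t * b = b * a ^ (2 * l) * (t₁ * t) := mul_inv_eq_iff_eq_mul.mp h1
      have h3 : a ^ l * b = b * a ^ (-l) := by
        have := q.ba_zpow (-l)
        rw [zpow_neg, inv_inv] at this
        rw [zpow_neg]; exact this.symm
      calc a ^ l * (t₁ * t) * b = a ^ l * (t₁ * t * b) := by group
        _ = (a ^ l * b) * a ^ (2 * l) * (t₁ * t) := by rw [h2]; group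
        _ = b * a ^ (-l) * a ^ (2 * l) * (t₁ * t) := by rw [h3]
        _ = b * (a ^ l * (t₁ * t)) := by group
  obtain ⟨κ, hκ⟩ : ∃ κ, κ = a ^ l * (t₁ * t) := ⟨_, rfl⟩
  rw [← hκ] at hκK
  have hκR := (mem_centK.mp hκK).2
  have ht₁ : t₁ = κ * (a ^ (-l) * t) := by
    rw [← mul_assoc, hκR _ (zpow_mem q.aR _), hκ]
    have : a ^ (-l) * (a ^ l * (t₁ * t)) * t = t₁ * (t * t) := by group
    rw [this, d.tt, mul_one]
  obtain ⟨ρ, hρ, hρt⟩ := at_conj d (-l)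
  rw [hρt] at ht₁
  have h1 : ρ⁻¹ * t₁ * ρ = κ * t := by
    have h2 : ρ⁻¹ * κ = κ * ρ⁻¹ := (hκR _ (inv_mem hρ)).symm
    calc ρ⁻¹ * t₁ * ρ = ρ⁻¹ * κ * ρ * t := by rw [ht₁]; group
      _ = κ * t := by rw [h2]; group
  have h2 : CE F z (κ * t) := by
    rw [← h1]
    have := ce_move h ‹CE F z t₁› (h.RS (inv_mem hρ))
    rwa [inv_inv] at this
  obtain ⟨c, -, -, hc⟩ := B3 h hB v
  rcases hc κ hκK h2 with h3 | h3
  · exact ⟨ρ, hρ, by rw [ht₁, h3, one_mul]⟩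
  · obtain ⟨σ, hσ, hσt⟩ := h.factF v.cj v.ne
    refine ⟨ρ * σ⁻¹, mul_mem hρ (inv_mem hσ), ?_⟩
    have h4 : ρ * σ⁻¹ * t * (ρ * σ⁻¹)⁻¹ = ρ * (σ⁻¹ * t * σ) * ρ⁻¹ := by group
    rw [h4, hσt, ht₁, h3]
    have h5 : z * (ρ * t * ρ⁻¹) = (ρ * t * ρ⁻¹) * z :=
      (h.z_centr _ (mul_mem (mul_mem (h.RS hρ) htS) (inv_mem (h.RS hρ)))).symm
    have h6 : ρ⁻¹ * z = z * ρ⁻¹ := h.z_centr _ (inv_mem (h.RS hρ))
    rw [h5, mul_assoc, h6]; group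

theorem SRC {t : Ω} {β : Ω → Ω} (v : VD F z t β) {s : Ω} (hs : s ∈ S) : ∃ ρ ∈ R, ∃ σ ∈ CS S t, s = ρ * σ := by
  have htS := ce_right v.cj
  have h1 := ce_move h v.cj hs
  have h2 : s * t * s⁻¹ ≠ z := by
    intro h3
    rw [mul_inv_eq_iff_eq_mul, ← h.z_centr s hs] at h3
    exact v.ne (mul_left_cancel h3)
  obtain ⟨ρ, hρ, h4⟩ := B4 h hB v h1 h2
  refine ⟨ρ, hρ, ρ⁻¹ * s, mem_cent.mpr ⟨mul_mem (inv_mem (h.RS hρ)) hs, ?_⟩, by rw [mul_inv_cancel_left]⟩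
  have h5 : s * t = ρ * t * ρ⁻¹ * s := mul_inv_eq_iff_eq_mul.mp h4
  rw [mul_assoc, h5]; group

/-- `[S, S] ≤ R` -/
theorem comm_R {t : Ω} {β : Ω → Ω} (v : VD F z t β) {s s' : Ω} (hs : s ∈ S) (hs' : s' ∈ S) : s * s' * s⁻¹ * s'⁻¹ ∈ R := by
  obtain ⟨ρ, hρ, σ, hσ, rfl⟩ := SRC h hB v hs
  obtain ⟨ρ', hρ', σ', hσ', rfl⟩ := SRC h hB v hs'
  have h1 : σ * σ' = σ' * σ := B1 h hB v hσ hσ'
  have h2 : ρ * σ * (ρ' * σ') * (ρ * σ)⁻¹ * (ρ' * σ')⁻¹ =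
      ρ * (σ * ρ' * σ⁻¹) * ((σ * σ') * (σ' * σ)⁻¹) * (ρ' * (σ' * ρ * σ'⁻¹))⁻¹ := by group
  rw [h2, h1, mul_inv_cancel, mul_one]
  exact mul_mem (mul_mem hρ (h.Rn σ hσ.1 ρ' hρ')) (inv_mem (mul_mem hρ' (h.Rn σ' hσ'.1 ρ hρ)))

end sit

end Cfsg.Agent.H782.QB
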