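import Cfsg.Agent.H782.Q.B4

/-! # S5176, section 2 (case B): `[C_S(t), β] ≤ ⟨z, t⟩` and the conclusion -/
set_option autoImplicit false
set_option linter.unusedSectionVars false

open Cfsg Cfsg.FusionSystem Cfsg.Agent.H752 Cfsg.Agent.H784.SF Cfsg.Agent.H784.Q

universe u

namespace Cfsg.Agent.H782.QB

variable {Ω : Type u} [Group Ω] {S : Subgroup Ω} [Finite S] {F : FusionSystem S} {R : Subgroup Ω} {a b z r : Ω} {m : ℕ}

theorem tzt {R : Subgroup Ω} {t : Ω} (d : SD R a b z r m t) : ∀ x ∈ Subgroup.zpowers z, t * x * t ∈ Subgroup.zpowers z := by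
  intro x hx
  rcases zp_two d.q.zz hx with rfl | rfl
  · rw [mul_one, d.tt]; exact one_mem _
  · rw [d.tz, mul_assoc, d.tt, mul_one]; exact Subgroup.mem_zpowers _

/-- `W = ⟨z, t⟩` -/
abbrev Wt {R : Subgroup Ω} {t : Ω} (d : SD R a b z r m t) : Subgroup Ω := adj (Subgroup.zpowers z) t d.tt (tzt d)

theorem mem_W {R : Subgroup Ω} {t : Ω} (d : SD R a b z r m t) {x : Ω} :
    x ∈ Wt d ↔ x = 1 ∨ x = z ∨ x = t ∨ x = z * t := by
  rw [mem_adj]
  constructor
  · rintro ⟨k, hk, h1⟩
    rcases zp_two d.q.zz hk with rfl | rfl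
    · rw [one_mul] at h1; rcases h1 with h1 | h1
      · exact Or.inl h1
      · exact Or.inr (Or.inr (Or.inl h1))
    · rcases h1 with h1 | h1
      · exact Or.inr (Or.inl h1)
      · exact Or.inr (Or.inr (Or.inr h1))
  · rintro (h1 | h1 | h1 | h1)
    · exact ⟨1, one_mem _, Or.inl h1⟩
    · exact ⟨z, Subgroup.mem_zpowers _, Or.inl h1⟩
    · exact ⟨1, one_mem _, Or.inr (by rw [one_mul]; exact h1)⟩
    · exact ⟨z, Subgroup.mem_zpowers _, Or.inr h1⟩

section sit
variable (h : Sit F R a b z r m) (hB : ∀ (t : Ω) (β : Ω → Ω), VD F z t β → TySD R a b z t)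
include h hB

theorem B5 {t : Ω} {β : Ω → Ω} (v : VD F z t β) (d : SD R a b z r m t) : ∀ y ∈ CS S t, y⁻¹ * β y ∈ Wt d := by
  have q := h.qr
  have htS := ce_right v.cj
  have htC : t ∈ CS S t := mem_cent.mpr ⟨htS, rfl⟩
  have hzC : z ∈ CS S t := mem_cent.mpr ⟨h.zS, (h.z_centr t htS).symm⟩
  have comm : ∀ s ∈ CS S t, ∀ s' ∈ CS S t, s * s' = s' * s := fun s hs s' hs' => B1 h hB v hs hs'
  have hWC : Wt d ≤ CS S t := by
    intro x hx
    rcases (mem_W d).mp hx with h1 | h1 | h1 | h1 <;> rw [h1]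
    · exact one_mem _
    · exact hzC
    · exact htC
    · exact mul_mem hzC htC
  have z1 : (1 : Ω) ∈ Wt d := one_mem _
  have zW : z ∈ Wt d := (mem_W d).mpr (Or.inr (Or.inl rfl))
  have tW : t ∈ Wt d := (mem_W d).mpr (Or.inr (Or.inr (Or.inl rfl)))
  have htz : t * z = z * t := d.tz
  have hβzt : β (z * t) = z := by
    rw [v.mp.mul hzC htC, v.βz, v.βt, ← mul_assoc, d.tt, one_mul]
  have hβW : ∀ x ∈ Wt d, β x ∈ Wt d := by
    intro x hx
    rcases (mem_W d).mp hx with h1 | h1 | h1 | h1 <;> rw [h1]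
    · rw [v.mp.one]; exact z1
    · rw [v.βz]; exact tW
    · rw [v.βt]; exact mul_mem tW zW
    · rw [hβzt]; exact zW
  have hβW' : ∀ x ∈ CS S t, β x ∈ Wt d → x ∈ Wt d := by
    intro x hx hβ
    rcases (mem_W d).mp hβ with h1 | h1 | h1 | h1
    · rw [← v.mp.one] at h1; rw [v.mp.inj hx (one_mem _) h1]; exact z1
    · rw [← hβzt] at h1; rw [v.mp.inj hx (mul_mem hzC htC) h1]; exact mul_mem zW tW
    · rw [← v.βz] at h1; rw [v.mp.inj hx hzC h1]; exact zW
    · rw [← htz, ← v.βt] at h1; rw [v.mp.inj hx htC h1]; exact tW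
  have hztc : CE F z (z * t) := by
    have h1 := (CE.of_mp v.mp htC)
    rw [v.βt, htz] at h1
    exact v.cj.trans h1
  have hztne : z * t ≠ z := fun h1 => h.t_ne v.cj (mul_eq_left.mp h1)
  -- squares in `W` are trivial
  have sqW : ∀ u ∈ CS S t, u * u ∈ Wt d → u * u = 1 := by
    intro u hu huu
    rcases (mem_W d).mp huu with h1 | h1 | h1 | h1
    · exact h1
    · exfalso
      refine B0 h hB v.cj v.ne (v.mp.mem hu) ?_
      rw [← v.mp.mul hu hu, h1, v.βz]
    · exact absurd h1 (B0 h hB v.cj v.ne hu.1)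
    · exact absurd h1 (B0 h hB hztc hztne hu.1)
  -- involutions outside `W`
  have typ : ∀ w ∈ CS S t, w * w = 1 → w ∉ Wt d → ∃ e ∈ Wt d, Ar a b z (w * e) := by
    intro w hw hww hnW
    rcases type4 h d htS hw hww with h1 | h1 | h1 | h1
    · exfalso; apply hnW
      rcases B2 h hB v hw h1 with h2 | h2 <;> rw [h2]
      · exact z1
      · exact zW
    · exfalso; apply hnW
      have h3 : w * t ∈ Wt d := by
        rcases B2 h hB v (mul_mem hw htC) h1 with h2 | h2 <;> rw [h2]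
        · exact z1
        · exact zW
      have := mul_mem h3 (inv_mem tW)
      rwa [mul_inv_cancel_right] at this
    · exact ⟨1, z1, by rw [mul_one]; exact h1⟩
    · exact ⟨t, tW, h1⟩
  have idx : ∀ w ∈ CS S t, ∀ w' ∈ CS S t, w * w = 1 → w' * w' = 1 → w ∉ Wt d → w' ∉ Wt d → w⁻¹ * w' ∈ Wt d := by
    intro w hw w' hw' hww hww' hn hn'
    obtain ⟨e, he, h1⟩ := typ w hw hww hn
    obtain ⟨e', he', h2⟩ := typ w' hw' hww' hn'
    have c1 := mul_mem hw (hWC he)
    have c2 := mul_mem hw' (hWC he')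
    have h3 := ar_mul h c2.1 c1.1 h2 h1
    have h4 : w' * e' * (w * e)⁻¹ ∈ Wt d := by
      rcases B2 h hB v (mul_mem c2 (inv_mem c1)) h3 with h5 | h5 <;> rw [h5]
      · exact z1
      · exact zW
    have h5 : w⁻¹ * w' = e * ((w' * e' * (w * e)⁻¹) * e'⁻¹) := by
      have k1 : Commute w w' := comm _ hw _ hw'
      have k2 : Commute e w' := comm _ (hWC he) _ hw'
      have k3 : Commute e e' := comm _ (hWC he) _ (hWC he')
      have k4 : Commute w e' := comm _ hw _ (hWC he')
      have k5 : Commute w e := comm _ hw _ (hWC he)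
      have k6 : Commute e' (w * e)⁻¹ := (k4.symm.mul_right k3.symm).inv_right
      calc w⁻¹ * w' = w' * w⁻¹ := (k1.inv_left).eq
        _ = w' * (e * e⁻¹ * w⁻¹) := by rw [mul_inv_cancel, one_mul]
        _ = (w' * e) * (e⁻¹ * w⁻¹) := by group
        _ = (e * w') * (e⁻¹ * w⁻¹) := by rw [k2.eq]
        _ = e * (w' * (w * e)⁻¹) := by group
        _ = e * (w' * ((w * e)⁻¹ * e') * e'⁻¹) := by group
        _ = e * (w' * (e' * (w * e)⁻¹) * e'⁻¹) := by rw [k6.eq]
        _ = _ := by group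
    rw [h5]
    exact mul_mem he (mul_mem h4 (inv_mem he'))
  have invW : ∀ w ∈ CS S t, w * w = 1 → w⁻¹ * β w ∈ Wt d := by
    intro w hw hww
    by_cases hwW : w ∈ Wt d
    · exact mul_mem (inv_mem hwW) (hβW w hwW)
    · exact idx w hw (β w) (v.maps w hw) hww (by rw [← v.mp.mul hw hw, hww, v.mp.one]) hwW fun h1 => hwW (hβW' w hw h1)
  obtain ⟨n, hno, hn⟩ := v.odd
  have hiter : ∀ j : ℕ, ∀ y ∈ CS S t, β^[j] y ∈ CS S t := by
    intro j
    induction j with
    | zero => intro y hy; exact hy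
    | succ j ih => intro y hy; rw [Function.iterate_succ_apply']; exact v.maps _ (ih y hy)
  -- induction
  have main : ∀ k : ℕ, ∀ y ∈ CS S t, y ^ 2 ^ k ∈ Wt d → y⁻¹ * β y ∈ Wt d := by
    intro k
    induction k with
    | zero =>
      intro y hy hyW
      rw [pow_zero, pow_one] at hyW
      exact mul_mem (inv_mem hyW) (hβW y hyW)
    | succ k ih =>
      intro y hy hyW
      have hyy := mul_mem hy hy
      have h1 : (y * y) ^ 2 ^ k ∈ Wt d := by
        rw [← pow_two, ← pow_mul, ← pow_succ']; exact hyW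
      have h2 := ih _ hyy h1
      obtain ⟨u, hu⟩ : ∃ u, u = y⁻¹ * β y := ⟨_, rfl⟩
      have huC : u ∈ CS S t := by rw [hu]; exact mul_mem (inv_mem hy) (v.maps y hy)
      have hβy : β y = y * u := by rw [hu, mul_inv_cancel_left]
      have kyu : Commute y u := comm _ hy _ huC
      have h3 : (y * y)⁻¹ * β (y * y) = u * u := by
        rw [v.mp.mul hy hy, hβy]
        have : y * u * (y * u) = (y * y) * (u * u) := by
          calc y * u * (y * u) = y * (u * y) * u := by group
            _ = y * (y * u) * u := by rw [kyu.eq]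
            _ = _ := by group
        rw [this, inv_mul_cancel_left]
      rw [h3] at h2
      have huu := sqW u huC h2
      have h4 := invW u huC huu
      obtain ⟨w₀, hw₀⟩ : ∃ w₀, w₀ = u⁻¹ * β u := ⟨_, rfl⟩
      rw [← hw₀] at h4
      have hβu : β u = u * w₀ := by rw [hw₀, mul_inv_cancel_left]
      have hj : ∀ j : ℕ, ∃ w ∈ Wt d, β^[j] y = y * u ^ j * w := by
        intro j
        induction j with
        | zero => exact ⟨1, z1, by simp⟩
        | succ j ihj =>
          obtain ⟨w, hw, hwj⟩ := ihj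
          have kuw : Commute u w₀ := comm _ huC _ (hWC h4)
          refine ⟨w₀ ^ j * β w, mul_mem (pow_mem h4 j) (hβW w hw), ?_⟩
          rw [Function.iterate_succ_apply', hwj, v.mp.mul (mul_mem hy (pow_mem huC j)) (hWC hw),
            v.mp.mul hy (pow_mem huC j), v.mp.pow huC, hβy, hβu, kuw.mul_pow, pow_succ']
          group
      obtain ⟨w, hw, hwn⟩ := hj n
      rw [hn y hy] at hwn
      have h5 : u ^ n * w = 1 := by
        have : y * (u ^ n * w) = y := by rw [← mul_assoc]; exact hwn.symm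
        exact mul_eq_left.mp this
      obtain ⟨l, rfl⟩ := hno
      have h6 : u ^ (2 * l + 1) = u := by rw [pow_succ, pow_mul, pow_two, huu, one_pow, one_mul]
      rw [h6] at h5
      rw [← hu, eq_inv_of_mul_eq_one_left h5]
      exact inv_mem hw
  intro y hy
  obtain ⟨k, hk⟩ := h.hS ⟨y, hy.1⟩
  have hk' : y ^ 2 ^ k = 1 := congrArg Subtype.val hk
  exact main k y hy (by rw [hk']; exact z1)

end sit

end Cfsg.Agent.H782.QB
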