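import Cfsg.Agent.H782.Q.B5

/-! # S5176, section 2 (case B): the conclusion, `S` is semidihedral -/
set_option autoImplicit false
set_option linter.unusedSectionVars false

open Cfsg Cfsg.FusionSystem Cfsg.Agent.H752 Cfsg.Agent.H784.SF Cfsg.Agent.H784.Q

universe u

namespace Cfsg.Agent.H782.QB

variable {Ω : Type u} [Group Ω] {S : Subgroup Ω} [Finite S] {F : FusionSystem S} {R : Subgroup Ω} {a b z r : Ω} {m : ℕ}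

section sit
variable (h : Sit F R a b z r m)
include h

theorem tRt {t : Ω} (d : SD R a b z r m t) (htS : t ∈ S) : ∀ x ∈ R, t * x * t ∈ R := fun x hx => by
  have := h.Rn t htS x hx
  rwa [d.tinv] at this

variable (hB : ∀ (t : Ω) (β : Ω → Ω), VD F z t β → TySD R a b z t)
include hB

theorem S_eq
    (hfoc : ∀ S₁ : Subgroup Ω, S₁ ≤ S → (∀ s ∈ S, ∀ x ∈ S₁, s * x * s⁻¹ ∈ S₁) →
      (∀ s ∈ S, ∀ s' ∈ S, s * s' * s⁻¹ * s'⁻¹ ∈ S₁) → R ≤ S₁ → Nat.card (centralizerIn S R) ≤ 4 →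
      ∀ (P : Subgroup Ω) (f : Ω → Ω), Mp F P f → z ∈ P → f z = z → ∀ x ∈ P, x⁻¹ * f x ∈ S₁)
    (hgen : ∀ S₁ : Subgroup Ω, S₁ ≤ S → (∀ s ∈ S, ∀ x ∈ S₁, s * x * s⁻¹ ∈ S₁) →
      (∀ s ∈ S, ∀ s' ∈ S, s * s' * s⁻¹ * s'⁻¹ ∈ S₁) →
      (∀ (P : Subgroup Ω) (f : Ω → Ω), Mp F P f → z ∈ P → f z = z → ∀ x ∈ P, x⁻¹ * f x ∈ S₁) →
      (∀ t, CE F z t → t ≠ z → ∃ f : Ω → Ω, Mp F (CS S t) f ∧ f t = z ∧ ∀ x ∈ CS S t, x⁻¹ * f x ∈ S₁) → S₁ = S)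
    {t : Ω} {β : Ω → Ω} (v : VD F z t β) (d : SD R a b z r m t) (htS : t ∈ S) :
    adj R t d.tt (tRt h d htS) = S := by
  have q := h.qr
  obtain ⟨P₀, hP₀⟩ : ∃ P₀, P₀ = adj R t d.tt (tRt h d htS) := ⟨_, rfl⟩
  rw [← hP₀]
  have hRP : R ≤ P₀ := fun x hx => by rw [hP₀]; exact ⟨x, hx, Or.inl rfl⟩
  have htP : t ∈ P₀ := by rw [hP₀]; exact ⟨1, one_mem _, Or.inr (one_mul _).symm⟩
  have hT : ∀ t₁, CE F z t₁ → t₁ ∈ P₀ := by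
    intro t₁ h1
    by_cases hne : t₁ = z
    · rw [hne]; exact hRP q.zR
    obtain ⟨ρ, hρ, h2⟩ := B4 h hB v h1 hne
    rw [h2]
    exact mul_mem (mul_mem (hRP hρ) htP) (inv_mem (hRP hρ))
  have hPS : P₀ ≤ S := by
    rw [hP₀]
    rintro x ⟨p, hp, rfl | rfl⟩
    · exact h.RS hp
    · exact mul_mem (h.RS hp) htS
  have hn : ∀ s ∈ S, ∀ x ∈ P₀, s * x * s⁻¹ ∈ P₀ := by
    intro s hs x hx
    rw [hP₀] at hx
    obtain ⟨p, hp, rfl | rfl⟩ := hx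
    · exact hRP (h.Rn s hs _ hp)
    · have h1 : s * (p * t) * s⁻¹ = (s * p * s⁻¹) * (s * t * s⁻¹) := by group
      rw [h1]
      exact mul_mem (hRP (h.Rn s hs _ hp)) (hT _ (ce_move h v.cj hs))
  have hab : ∀ s ∈ S, ∀ s' ∈ S, s * s' * s⁻¹ * s'⁻¹ ∈ P₀ := fun s hs s' hs' => hRP (comm_R h hB v hs hs')
  have hK : Nat.card (centralizerIn S R) ≤ 4 := by
    obtain ⟨c, hc4, hcK, -⟩ := B3 h hB v
    have hfin : IsOfFinOrder c := isOfFinOrder_iff_pow_eq_one.mpr ⟨4, by norm_num, hc4⟩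
    have h1 : Nat.card (Subgroup.zpowers c) ≤ 4 := by
      rw [Nat.card_zpowers]
      exact Nat.le_of_dvd (by norm_num) (orderOf_dvd_of_pow_eq_one hc4)
    have : Finite (Subgroup.zpowers c) := Nat.finite_of_card_ne_zero (by
      rw [Nat.card_zpowers]; exact (orderOf_pos_iff.mpr hfin).ne')
    exact (Subgroup.card_le_of_le hcK).trans h1
  have hc := hfoc P₀ hPS hn hab hRP hK
  refine hgen P₀ hPS hn hab hc fun t₁ h1 hne => ?_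
  obtain ⟨ψ, β₁, hψ, hψz, hv, hmaps⟩ := h.factG h1 hne
  have ht₁S := ce_right h1
  have ht₁C : t₁ ∈ CS S t₁ := mem_cent.mpr ⟨ht₁S, rfl⟩
  have hzC₁ : z ∈ CS S t₁ := mem_cent.mpr ⟨h.zS, (h.z_centr t₁ ht₁S).symm⟩
  have ht₂S := ce_right hv.cj
  have ht₂C : ψ t₁ ∈ CS S (ψ t₁) := mem_cent.mpr ⟨ht₂S, rfl⟩
  have hzC₂ : z ∈ CS S (ψ t₁) := mem_cent.mpr ⟨h.zS, (h.z_centr _ ht₂S).symm⟩
  have d₂ := all_sd h hB hv.cj hv.ne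
  have hWP : Wt d₂ ≤ P₀ := by
    intro x hx
    rcases (mem_W d₂).mp hx with h2 | h2 | h2 | h2 <;> rw [h2]
    · exact one_mem _
    · exact hRP q.zR
    · exact hT _ hv.cj
    · exact mul_mem (hRP q.zR) (hT _ hv.cj)
  have hβ : ∀ y ∈ CS S (ψ t₁), y⁻¹ * β₁ y ∈ P₀ := fun y hy => hWP (B5 h hB hv d₂ y hy)
  have hm1 := hψ.comp hv.mp hmaps
  have hm2 := hm1.comp hv.mp (fun x hx => hv.maps _ (hmaps x hx))
  refine ⟨_, hm2, ?_, fun x hx => ?_⟩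
  · show β₁ (β₁ (ψ t₁)) = z
    rw [hv.βt, hv.mp.mul ht₂C hzC₂, hv.βt, hv.βz, mul_assoc, ← h.z_centr _ ht₂S, ← mul_assoc, d₂.tt, one_mul]
  · show x⁻¹ * β₁ (β₁ (ψ x)) ∈ P₀
    have e1 : x⁻¹ * β₁ (β₁ (ψ x)) = (x⁻¹ * ψ x) * ((ψ x)⁻¹ * β₁ (ψ x)) * ((β₁ (ψ x))⁻¹ * β₁ (β₁ (ψ x))) := by group
    rw [e1]
    exact mul_mem (mul_mem (hc _ _ hψ hzC₁ hψz x hx) (hβ _ (hmaps x hx))) (hβ _ (hv.maps _ (hmaps x hx)))

end sit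

end Cfsg.Agent.H782.QB

namespace Cfsg.Agent.H784.Q

open Cfsg.Agent.H782.QB

variable {Ω : Type u} [Group Ω] {S : Subgroup Ω} [Finite S] {F : FusionSystem S} {R : Subgroup Ω} {a b z r : Ω} {m : ℕ}

/-- Case B: the order of `S`, and `S` is semidihedral. -/
theorem Sit.caseB_both (h : Sit F R a b z r m) (hB : ∀ (t : Ω) (β : Ω → Ω), VD F z t β → TySD R a b z t)
    (hfoc : ∀ S₁ : Subgroup Ω, S₁ ≤ S → (∀ s ∈ S, ∀ x ∈ S₁, s * x * s⁻¹ ∈ S₁) →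
      (∀ s ∈ S, ∀ s' ∈ S, s * s' * s⁻¹ * s'⁻¹ ∈ S₁) → R ≤ S₁ → Nat.card (centralizerIn S R) ≤ 4 →
      ∀ (P : Subgroup Ω) (f : Ω → Ω), Mp F P f → z ∈ P → f z = z → ∀ x ∈ P, x⁻¹ * f x ∈ S₁)
    (hgen : ∀ S₁ : Subgroup Ω, S₁ ≤ S → (∀ s ∈ S, ∀ x ∈ S₁, s * x * s⁻¹ ∈ S₁) →
      (∀ s ∈ S, ∀ s' ∈ S, s * s' * s⁻¹ * s'⁻¹ ∈ S₁) →
      (∀ (P : Subgroup Ω) (f : Ω → Ω), Mp F P f → z ∈ P → f z = z → ∀ x ∈ P, x⁻¹ * f x ∈ S₁) →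
      (∀ t, CE F z t → t ≠ z → ∃ f : Ω → Ω, Mp F (CS S t) f ∧ f t = z ∧ ∀ x ∈ CS S t, x⁻¹ * f x ∈ S₁) → S₁ = S) :
    Nat.card S = 2 ^ (m + 2) ∧ IsQuasiDihedral S := by
  have q := h.qr
  obtain ⟨t₀, hne₀, ht₀⟩ := h.nz
  obtain ⟨ψ, β, -, -, v, -⟩ := h.factG ht₀ hne₀
  generalize ψ t₀ = t at v
  have htS := ce_right v.cj
  have d := all_sd h hB v.cj v.ne
  have hS := S_eq h hB hfoc hgen v d htS
  have hm := q.m3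
  have hyS : b * t ∈ S := mul_mem (h.RS q.bR) htS
  have hY : Subgroup.zpowers (b * t) ≤ S := Subgroup.zpowers_le.mpr hyS
  have htY : t ∉ Subgroup.zpowers (b * t) := by
    intro h1
    have h2 : Commute t (b * t) := by
      obtain ⟨k, hk⟩ := Subgroup.mem_zpowers_iff.mp h1
      have := (Commute.refl (b * t)).zpow_left k
      rwa [hk] at this
    have h3 : Commute t a := by
      obtain ⟨k, hk⟩ := Subgroup.mem_zpowers_iff.mp d.a_mem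
      rw [← hk]; exact h2.zpow_right k
    exact not_ce h hB h3.eq v.ne v.cj
  have hdich : ∀ s ∈ S, s ∈ Subgroup.zpowers (b * t) ∨ s * t ∈ Subgroup.zpowers (b * t) := by
    intro s hs
    rw [← hS] at hs
    have hai : ∀ i : ℕ, a ^ i ∈ Subgroup.zpowers (b * t) := fun i => pow_mem d.a_mem i
    have hbai : ∀ i : ℕ, b * a ^ i * t ∈ Subgroup.zpowers (b * t) := by
      intro i
      have h4 := d.ta_zpow (-(i : ℤ))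
      rw [zpow_neg, zpow_natCast, inv_inv] at h4
      have : b * a ^ i * t = (b * t) * (a ^ i)⁻¹ := by rw [mul_assoc, ← h4, ← mul_assoc]
      rw [this]
      exact mul_mem (Subgroup.mem_zpowers _) (inv_mem (hai i))
    obtain ⟨ρ, hρ, h1⟩ := hs
    obtain ⟨i, h2 | h2⟩ := q.gen ρ hρ <;> rw [h2] at h1 <;> rcases h1 with h1 | h1 <;> rw [h1]
    · exact Or.inl (hai i)
    · right; rw [mul_assoc, d.tt, mul_one]; exact hai i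
    · exact Or.inr (hbai i)
    · exact Or.inl (hbai i)
  have hcard : Nat.card S = 2 ^ (m + 1 + 1) := by
    have h1 := Subgroup.card_mul_index ((Subgroup.zpowers (b * t)).subgroupOf S)
    have h2 : ((Subgroup.zpowers (b * t)).subgroupOf S).index = 2 := by
      rw [Subgroup.index_eq_two_iff]
      refine ⟨⟨t, htS⟩, fun s => ?_⟩
      rw [Subgroup.mem_subgroupOf, Subgroup.mem_subgroupOf]
      change Xor (((s : Ω) * t) ∈ _) _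
      by_cases h3 : (s : Ω) ∈ Subgroup.zpowers (b * t)
      · right
        refine ⟨h3, fun h4 => htY ?_⟩
        have := mul_mem (inv_mem h3) h4
        rwa [inv_mul_cancel_left] at this
      · left
        exact ⟨(hdich s s.2).resolve_left h3, h3⟩
    rw [h2] at h1
    rw [← h1, Nat.card_congr (Subgroup.subgroupOfEquivOfLe hY).toEquiv, Nat.card_zpowers, d.orderOf_y]
    ring
  refine ⟨hcard, m + 1, by omega, hcard, ⟨b * t, hyS⟩, ⟨t, htS⟩, ?_, ?_, ?_⟩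
  · rw [← Subgroup.orderOf_coe]; exact d.orderOf_y
  · rw [← Subgroup.orderOf_coe]
    exact orderOf_eq_prime (by rw [pow_two]; exact d.tt) (h.t_ne v.cj)
  · apply Subtype.ext
    show t * (b * t) * t⁻¹ = (b * t) ^ (2 ^ (m + 1 - 1) - 1)
    rw [d.tinv, d.ty_conj, Nat.add_sub_cancel]
    have h1 : (b * t) * (b * t) ^ (2 ^ m - 1) = z := by
      rw [← pow_succ', Nat.sub_add_cancel (Nat.one_le_two_pow), d.y_pow_half]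
    rw [← h1, inv_mul_cancel_left]

/-- Case B: `S` is semidihedral; `hfoc`, `hgen` are `Sit.foc_cen_small` and `Sit.generation`. -/
theorem Sit.caseB_of (h : Sit F R a b z r m) (hB : ∀ (t : Ω) (β : Ω → Ω), VD F z t β → TySD R a b z t)
    (hfoc : ∀ S₁ : Subgroup Ω, S₁ ≤ S → (∀ s ∈ S, ∀ x ∈ S₁, s * x * s⁻¹ ∈ S₁) →
      (∀ s ∈ S, ∀ s' ∈ S, s * s' * s⁻¹ * s'⁻¹ ∈ S₁) → R ≤ S₁ → Nat.card (centralizerIn S R) ≤ 4 →
      ∀ (P : Subgroup Ω) (f : Ω → Ω), Mp F P f → z ∈ P → f z = z → ∀ x ∈ P, x⁻¹ * f x ∈ S₁)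
    (hgen : ∀ S₁ : Subgroup Ω, S₁ ≤ S → (∀ s ∈ S, ∀ x ∈ S₁, s * x * s⁻¹ ∈ S₁) →
      (∀ s ∈ S, ∀ s' ∈ S, s * s' * s⁻¹ * s'⁻¹ ∈ S₁) →
      (∀ (P : Subgroup Ω) (f : Ω → Ω), Mp F P f → z ∈ P → f z = z → ∀ x ∈ P, x⁻¹ * f x ∈ S₁) →
      (∀ t, CE F z t → t ≠ z → ∃ f : Ω → Ω, Mp F (CS S t) f ∧ f t = z ∧ ∀ x ∈ CS S t, x⁻¹ * f x ∈ S₁) → S₁ = S)
    : IsQuasiDihedral S := (h.caseB_both hB hfoc hgen).2

/-- Case B: the order of `S`. -/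
theorem Sit.caseB_card_of (h : Sit F R a b z r m) (hB : ∀ (t : Ω) (β : Ω → Ω), VD F z t β → TySD R a b z t)
    (hfoc : ∀ S₁ : Subgroup Ω, S₁ ≤ S → (∀ s ∈ S, ∀ x ∈ S₁, s * x * s⁻¹ ∈ S₁) →
      (∀ s ∈ S, ∀ s' ∈ S, s * s' * s⁻¹ * s'⁻¹ ∈ S₁) → R ≤ S₁ → Nat.card (centralizerIn S R) ≤ 4 →
      ∀ (P : Subgroup Ω) (f : Ω → Ω), Mp F P f → z ∈ P → f z = z → ∀ x ∈ P, x⁻¹ * f x ∈ S₁)
    (hgen : ∀ S₁ : Subgroup Ω, S₁ ≤ S → (∀ s ∈ S, ∀ x ∈ S₁, s * x * s⁻¹ ∈ S₁) →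
      (∀ s ∈ S, ∀ s' ∈ S, s * s' * s⁻¹ * s'⁻¹ ∈ S₁) →
      (∀ (P : Subgroup Ω) (f : Ω → Ω), Mp F P f → z ∈ P → f z = z → ∀ x ∈ P, x⁻¹ * f x ∈ S₁) →
      (∀ t, CE F z t → t ≠ z → ∃ f : Ω → Ω, Mp F (CS S t) f ∧ f t = z ∧ ∀ x ∈ CS S t, x⁻¹ * f x ∈ S₁) → S₁ = S)
    : Nat.card S = 2 ^ (m + 2) := (h.caseB_both hB hfoc hgen).1

end Cfsg.Agent.H784.Q
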